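import Cfsg.Agent.Lib.SmallBlocks.NormalDef.Transfer

/-!
# Counting characters over congruent characters with the pairing

The trivial-pairing classes bound the number of characters over an invariant character from below;
a congruent character with a single character above it sees a non-trivial pairing at every class.
-/

set_option autoImplicit false
set_option linter.style.haveILetI false
set_option linter.unusedSectionVars false

open Cfsg CfsgLib.CharTheory CfsgLib.RelMcKay CfsgLib.IBr

namespace CfsgLib.SmallBlocks.NormalDef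

universe u

variable {G : Type u} [Group G] [Finite G]

theorem comm_mem_iff (N : Subgroup G) [N.Normal] (r y : G) :
    r * y * r⁻¹ * y⁻¹ ∈ N ↔ Commute (r : G ⧸ N) (y : G ⧸ N) := by
  rw [← QuotientGroup.eq_one_iff, QuotientGroup.mk_mul, QuotientGroup.mk_mul, QuotientGroup.mk_mul,
    QuotientGroup.mk_inv, QuotientGroup.mk_inv, mul_inv_eq_one, mul_inv_eq_iff_eq_mul]
  rfl

open scoped Classical in
theorem card_partners (N : Subgroup G) [N.Normal] (r : G) :
    Nat.card {y : (⊤ : Subgroup G) // r * y * r⁻¹ * (y : G)⁻¹ ∈ N} =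
      Nat.card N * Nat.card (Subgroup.centralizer ({(r : G ⧸ N)} : Set (G ⧸ N))) := by
  rw [← Nat.card_prod]
  refine Nat.card_congr (Equiv.trans ?_ (QuotientGroup.preimageMkEquivSubgroupProdSet N
    ((Subgroup.centralizer ({(r : G ⧸ N)} : Set (G ⧸ N))) : Set (G ⧸ N))))
  exact
    { toFun := fun y => ⟨(y.1 : G), Twist.mem_cen.2 ((comm_mem_iff N r _).1 y.2)⟩
      invFun := fun y => ⟨⟨y.1, Subgroup.mem_top _⟩, (comm_mem_iff N r _).2 (Twist.mem_cen.1 y.2)⟩
      left_inv := fun y => rfl
      right_inv := fun y => rfl }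

variable {p : ℕ} [hp : Fact p.Prime] {M : Ideal AlgInt} {S : PSys p M}
  {N : Subgroup G} [N.Normal] (hS : S.Fits G) (hidx : ¬ p ∣ N.index)
  {d : ℕ} (ρ : Representation ℂ N (Fin d → ℂ)) [ρ.IsIrreducible]
  (hinv : ∀ (g : G) (n : N), ρ.character (MulAut.conjNormal g n) = ρ.character n)
  {θ : G → ℂ} (hθ : IsIrrOn N θ) (hρ : ∀ n : N, θ n = ρ.character n)
  (hfix : ∀ g : G, g ∈ stab θ)
  (hdef : ∀ x ∈ N, θ x = 0 ∨ θ x = θ (S.reg x))

include hS hidx hθ hρ hfix hdef

open scoped Classical in
/-- The classes with trivial pairing are good. -/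
theorem sum_good_le [Fintype (G ⧸ N)] :
    ∑ q ∈ Finset.univ.filter (twist N ρ hinv).Good,
        Nat.card (Subgroup.centralizer ({q} : Set (G ⧸ N))) ≤
      (overIrr ⊤ N θ).card * N.index := by
  haveI : Fintype G := Fintype.ofFinite G
  haveI : Fintype N := Fintype.ofFinite N
  have htop : (⊤ : Subgroup G) ≤ Subgroup.normalizer (N : Set G) := by
    rw [Subgroup.normalizer_eq_top]
  have h := card_overIrr (K := N) (C := N) (R := ⊤) htop (top_inf_eq N) hθ fun g _ => hfix g
  rw [sup_top_eq] at h
  set c : G ⧸ N → ℕ := fun q =>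
    if (twist N ρ hinv).Good q then Nat.card (Subgroup.centralizer ({q} : Set (G ⧸ N))) else 0 with hc
  have hle : ∀ r : (⊤ : Subgroup G), Nat.card N * c ((r : G) : G ⧸ N) ≤ goodWeight N N ⊤ θ r := by
    intro r
    show Nat.card N * (if _ then _ else 0) ≤ _
    split_ifs with hg
    · have hgood : GoodEl N N ⊤ θ r := by
        intro y _ hy
        have hco := (comm_mem_iff N _ _).1 hy
        obtain ⟨f, hf, hfθ, hyf, hyV⟩ := exists_fixed_of_pairing N ρ hinv hρ hco (hg _ hco)
        exact extTo_of_fixed hS hidx hθ hθ (fun _ _ => rfl) hdef (hfix _) (hfix _) hf hfθ hyf hco hyV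
      rw [goodWeight, if_pos hgood, card_partners]
    · simp
  have hsum : ∑ r : (⊤ : Subgroup G), Nat.card N * c ((r : G) : G ⧸ N) =
      Nat.card N * (Nat.card N * ∑ q, c q) := by
    rw [← Finset.mul_sum, Fintype.sum_equiv (Subgroup.topEquiv (G := G)).toEquiv
        (fun r => c ((r : G) : G ⧸ N)) (fun g => c (g : G ⧸ N)) (fun r => rfl),
      ← Equiv.sum_comp (Subgroup.groupEquivQuotientProdSubgroup (s := N)).symm (fun g => c (g : G ⧸ N)),
      Fintype.sum_prod_type, Finset.mul_sum Finset.univ c (Nat.card N)]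
    congr 1
    refine Finset.sum_congr rfl fun q _ => ?_
    rw [Finset.sum_congr rfl fun n _ => by
      rw [show ((((Subgroup.groupEquivQuotientProdSubgroup (s := N)).symm (q, n) : G) : G ⧸ N)) = q from
        congrArg Prod.fst ((Subgroup.groupEquivQuotientProdSubgroup (s := N)).apply_symm_apply (q, n))],
      Finset.sum_const, Finset.card_univ, smul_eq_mul, ← Nat.card_eq_fintype_card]
  have h2 := (Finset.sum_le_sum fun r _ => hle r).trans_eq h.symm
  rw [hsum, Subgroup.card_top, ← N.card_mul_index] at h2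
  rw [Finset.sum_filter]
  have h0 : 0 < Nat.card N * Nat.card N := Nat.mul_pos Nat.card_pos Nat.card_pos
  refine Nat.le_of_mul_le_mul_left ?_ h0
  calc Nat.card N * Nat.card N * ∑ q, c q = Nat.card N * (Nat.card N * ∑ q, c q) := mul_assoc _ _ _
    _ ≤ (overIrr ⊤ N θ).card * (Nat.card N * N.index * Nat.card N) := h2
    _ = Nat.card N * Nat.card N * ((overIrr ⊤ N θ).card * N.index) := by ring

/-- With a single character above, every outside class pairs non-trivially. -/
theorem exists_pairing_ne_one {θ' : G → ℂ} (hθ' : IsIrrOn N θ')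
    (hreg : ∀ x ∈ N, θ' (S.reg x) = θ (S.reg x))
    (hone : (overIrr (stab θ') N θ').card = 1) {r : G} (hr : r ∈ stab θ') (hrN : r ∉ N) :
    ∃ y ∈ stab θ', Commute (r : G ⧸ N) (y : G ⧸ N) ∧
      pairing N ρ hinv (r : G ⧸ N) (y : G ⧸ N) ≠ 1 := by
  classical
  set R := stab θ' with hR
  haveI : Fintype G := Fintype.ofFinite G
  have hNR : N ≤ R := hθ'.le_stab
  have hRN : R ≤ Subgroup.normalizer (N : Set G) := by
    rw [Subgroup.normalizer_eq_top]; exact le_top
  have h := card_overIrr (K := N) (C := N) (R := R) hRN (inf_eq_right.2 hNR) hθ' le_rfl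
  rw [sup_eq_right.2 hNR, hone, one_mul] at h
  have hN : ∀ x : R, (x : G) ∈ N → goodWeight N N R θ' x = Nat.card R := by
    intro x hx
    have hall : ∀ y : G, (x : G) * y * (x : G)⁻¹ * y⁻¹ ∈ N := fun y => by
      rw [comm_mem_iff, (QuotientGroup.eq_one_iff (x : G)).2 hx]
      exact Commute.one_left _
    have hgood : GoodEl N N R θ' x := by
      intro y hy _
      rw [sup_eq_left.2 (Subgroup.zpowers_le.2 hx)]
      haveI := Subgroup.isCyclic_zpowers y
      exact exists_ext_cyclic (Subgroup.zpowers_le.2 (hRN hy)) hθ' (Subgroup.zpowers_le.2 hy)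
    rw [goodWeight, if_pos hgood]
    exact Nat.card_congr (Equiv.subtypeUnivEquiv fun y => hall y)
  have hzero : goodWeight N N R θ' r = 0 := by
    set A := Finset.univ.filter fun x : R => (x : G) ∈ N
    have hcard : A.card = Nat.card N := by
      rw [← Nat.card_eq_finsetCard]
      exact Nat.card_congr
        { toFun := fun x => ⟨(x.1 : G), (Finset.mem_filter.1 x.2).2⟩
          invFun := fun n => ⟨⟨n, hNR n.2⟩, Finset.mem_filter.2 ⟨Finset.mem_univ _, n.2⟩⟩
          left_inv := fun x => rfl
          right_inv := fun n => rfl }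
    have hA : ∑ x ∈ A, goodWeight N N R θ' x = Nat.card R * Nat.card N := by
      rw [Finset.sum_congr rfl fun x hx => hN x (Finset.mem_filter.1 hx).2, Finset.sum_const, hcard,
        smul_eq_mul, mul_comm]
    have h2 := Finset.sum_le_sum_of_subset
      (f := fun x : R => goodWeight N N R θ' x) (Finset.subset_univ (insert (⟨r, hr⟩ : R) A))
    rw [Finset.sum_insert (by simp [A, hrN]), hA, ← h] at h2
    show goodWeight N N R θ' ((⟨r, hr⟩ : R) : G) = 0
    omega
  by_contra hcon
  push Not at hcon
  have hgood : GoodEl N N R θ' r := by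
    intro y hy hyc
    have hco := (comm_mem_iff N _ _).1 hyc
    obtain ⟨f, hf, hfθ, hyf, hyV⟩ := exists_fixed_of_pairing N ρ hinv hρ hco (hcon y hy hco)
    exact extTo_of_fixed hS hidx hθ hθ' hreg hdef hr hy hf hfθ hyf hco hyV
  rw [goodWeight, if_pos hgood] at hzero
  exact absurd hzero (@Nat.card_pos _ ⟨⟨⟨r, hr⟩, by simp⟩⟩ _).ne'

end CfsgLib.SmallBlocks.NormalDef
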