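import Cfsg.Agent.Lib.SmallBlocks.NormalDef.TwistSum
import Cfsg.Agent.Lib.Zsigmondy.Basic

/-!
# A transitive `p'`-group of linear maps has a good element which does not invert
-/

set_option autoImplicit false
set_option linter.style.haveILetI false
set_option linter.unusedSectionVars false

namespace CfsgLib.SmallBlocks.NormalDef

universe u v

variable {E : Type u} [Group E] [Finite E] {Ω : Type v} [CommGroup Ω] [Finite Ω]
  [MulDistribMulAction E Ω] {p : ℕ} [hp : Fact p.Prime]

/-- Stable under `g`. -/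
def Stab (g : E) (U : Subgroup Ω) : Prop := ∀ x ∈ U, g • x ∈ U

theorem Stab.pow {g : E} {U : Subgroup Ω} (h : Stab g U) (i : ℕ) : Stab (g ^ i) U := by
  induction i with
  | zero => exact fun x hx => by rwa [pow_zero, one_smul]
  | succ i ih => exact fun x hx => by rw [pow_succ', mul_smul]; exact h _ (ih x hx)

/-- `g` has no proper non-trivial invariant subgroup. -/
def Irred (Ω : Type v) [CommGroup Ω] [MulDistribMulAction E Ω] (g : E) : Prop :=
  ∀ U : Subgroup Ω, Stab g U → U = ⊥ ∨ U = ⊤

variable (hfaith : ∀ x : E, (∀ ω : Ω, x • ω = ω) → x = 1)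
include hfaith

/-- An irreducible element has cyclic centralizer. -/
theorem isCyclic_centralizer {g : E} (hirr : Irred Ω g) (hne : Nontrivial Ω) :
    IsCyclic (Subgroup.centralizer ({g} : Set E)) := by
  haveI := hne
  let T : E →* AddMonoid.End (Additive Ω) :=
    { toFun := fun y => MonoidHom.toAdditive (MulDistribMulAction.toMonoidHom Ω y)
      map_one' := AddMonoidHom.ext fun a => one_smul E a.toMul
      map_mul' := fun y z => AddMonoidHom.ext fun a => mul_smul y z a.toMul }
  haveI : Finite (AddMonoid.End (Additive Ω)) :=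
    Finite.of_injective (fun f => (f : Additive Ω → Additive Ω)) DFunLike.coe_injective
  let R := Subring.centralizer ({T g} : Set (AddMonoid.End (Additive Ω)))
  have hker : ∀ f : R, f ≠ 0 → ∀ a, (f : AddMonoid.End (Additive Ω)) a = 0 → a = 0 := by
    intro f hf a ha
    let U : Subgroup Ω :=
      { carrier := {x | (f : AddMonoid.End (Additive Ω)) (Additive.ofMul x) = 0}
        one_mem' := by show (f : AddMonoid.End (Additive Ω)) (Additive.ofMul (1 : Ω)) = 0
                       rw [ofMul_one, map_zero]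
        mul_mem' := fun {x y} hx hy => by
          show (f : AddMonoid.End (Additive Ω)) (Additive.ofMul (x * y)) = 0
          rw [ofMul_mul, map_add, hx, hy, add_zero]
        inv_mem' := fun {x} hx => by
          show (f : AddMonoid.End (Additive Ω)) (Additive.ofMul x⁻¹) = 0
          rw [ofMul_inv, map_neg, hx, neg_zero] }
    have hU : Stab g U := fun x hx => by
      show (f : AddMonoid.End (Additive Ω)) (T g (Additive.ofMul x)) = 0
      have h := Subring.mem_centralizer_iff.1 f.2 (T g) rfl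
      refine (DFunLike.congr_fun h (Additive.ofMul x)).symm.trans ?_
      show T g ((f : AddMonoid.End (Additive Ω)) (Additive.ofMul x)) = 0
      rw [show (f : AddMonoid.End (Additive Ω)) (Additive.ofMul x) = 0 from hx, map_zero]
    rcases hirr U hU with h | h
    · have h1 : a.toMul ∈ U := ha
      rw [h, Subgroup.mem_bot] at h1
      exact toMul_eq_one.1 h1
    · refine absurd (Subtype.ext (AddMonoidHom.ext fun b => ?_)) hf
      exact (h.symm ▸ Subgroup.mem_top b.toMul : b.toMul ∈ U)
  haveI : Nontrivial R := ⟨⟨0, 1, fun h => by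
    obtain ⟨x, hx⟩ := exists_ne (1 : Ω)
    exact hx (toMul_eq_one.2 (show Additive.ofMul x = 0 from
      (DFunLike.congr_fun (congrArg Subtype.val h) (Additive.ofMul x)).symm))⟩⟩
  haveI : NoZeroDivisors R := ⟨fun {a b} hab => by
    by_contra hh
    rw [not_or] at hh
    refine hh.2 (Subtype.ext (AddMonoidHom.ext fun x => ?_))
    exact hker a hh.1 _ (DFunLike.congr_fun (congrArg Subtype.val hab) x)⟩
  haveI : IsDomain R := NoZeroDivisors.to_isDomain R
  haveI : Finite R := Subtype.finite
  letI : Field R := (Finite.isDomain_to_isField R).toField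
  let φ : Subgroup.centralizer ({g} : Set E) →* R :=
    { toFun := fun y => ⟨T (y : E), Subring.mem_centralizer_iff.2 fun z hz => by
        rw [Set.mem_singleton_iff.1 hz, ← map_mul, ← map_mul]
        exact congrArg T (Twist.mem_cen.1 y.2)⟩
      map_one' := Subtype.ext (map_one T)
      map_mul' := fun y z => Subtype.ext (map_mul T (y : E) (z : E)) }
  refine isCyclic_of_subgroup_isDomain φ ((injective_iff_map_eq_one φ).2 fun y hy => ?_)
  refine Subtype.ext (hfaith (y : E) fun ω => ?_)
  exact Additive.ofMul.injective (DFunLike.congr_fun (congrArg Subtype.val hy) (Additive.ofMul ω))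

variable {n : ℕ} (hcard : Nat.card Ω = p ^ n) (hexp : ∀ ω : Ω, ω ^ p = 1)
include hcard

/-- An element of primitive prime order is irreducible. -/
theorem irred_of_ppd {r : ℕ} (hr : Zsigmondy.IsPpd p n r) {g : E} (hg : orderOf g = r) :
    Irred Ω g := by
  haveI := Fact.mk hr.1
  have hrp : ¬ r ∣ p := fun h => by
    obtain rfl := (Nat.prime_dvd_prime_iff_eq hr.1 hp.out).1 h
    rcases Nat.eq_zero_or_pos n with rfl | hn
    · have h1 : g = 1 := hfaith g fun ω => by
        haveI : Subsingleton Ω := (Nat.card_eq_one_iff_unique.1 (by rw [hcard, pow_zero])).1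
        exact Subsingleton.elim _ _
      rw [h1, orderOf_one] at hg
      exact hr.1.one_lt.ne hg
    · have h1 := Nat.dvd_sub (dvd_pow_self r hn.ne') hr.2.1
      rw [Nat.sub_sub_self (Nat.one_le_pow _ _ hp.out.pos)] at h1
      exact hr.1.not_dvd_one h1
  let Fix : Subgroup Ω :=
    { carrier := {x | g • x = x}
      one_mem' := smul_one g
      mul_mem' := fun {x y} hx hy => by
        show g • (x * y) = x * y
        rw [smul_mul', hx, hy]
      inv_mem' := fun {x} hx => by
        show g • x⁻¹ = x⁻¹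
        rw [smul_inv', hx] }
  have key : ∀ U : Subgroup Ω, Stab g U → ∃ i j, Nat.card U = p ^ j ∧
      Nat.card (U ⊓ Fix : Subgroup Ω) = p ^ i ∧ i ≤ j ∧ j ≤ n ∧ (i = j ∨ i + n ≤ j) := by
    intro U hU
    have hstab : ∀ y ∈ Subgroup.zpowers g, ∀ x ∈ U, y • x ∈ U := fun y hy x hx => by
      obtain ⟨i, rfl⟩ := (mem_powers_iff_mem_zpowers (G := E)).2 hy
      exact hU.pow i x hx
    let _ : MulAction (Subgroup.zpowers g) U :=
      { smul := fun y x => ⟨(y : E) • (x : Ω), hstab y y.2 x x.2⟩
        one_smul := fun x => Subtype.ext (one_smul E (x : Ω))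
        mul_smul := fun y z x => Subtype.ext (mul_smul (y : E) (z : E) (x : Ω)) }
    have hR : IsPGroup r (Subgroup.zpowers g) :=
      IsPGroup.of_card (n := 1) (by rw [Nat.card_zpowers, hg, pow_one])
    have h1 := hR.card_modEq_card_fixedPoints U
    have h2 : Nat.card (MulAction.fixedPoints (Subgroup.zpowers g) U) =
        Nat.card (U ⊓ Fix : Subgroup Ω) :=
      Nat.card_congr
        { toFun := fun x => ⟨x.1.1, x.1.2,
            congrArg Subtype.val (x.2 ⟨g, Subgroup.mem_zpowers g⟩)⟩
          invFun := fun y => ⟨⟨y.1, y.2.1⟩, fun z => Subtype.ext (by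
            obtain ⟨i, hi⟩ := (mem_powers_iff_mem_zpowers (G := E)).2 z.2
            show (z : E) • (y : Ω) = y
            rw [← hi]
            clear hi
            induction i with
            | zero => simp
            | succ i ih =>
              show g ^ (i + 1) • (y : Ω) = y
              rw [pow_succ, mul_smul, show g • (y : Ω) = y from y.2.2]
              exact ih)⟩
          left_inv := fun x => rfl
          right_inv := fun y => rfl }
    obtain ⟨j, hjn, hj⟩ := (Nat.dvd_prime_pow hp.out).1 (hcard ▸ Subgroup.card_subgroup_dvd_card U)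
    obtain ⟨i, hij, hi⟩ := (Nat.dvd_prime_pow hp.out).1
      (hj ▸ Subgroup.card_dvd_of_le (inf_le_left : U ⊓ Fix ≤ U))
    refine ⟨i, j, hj, hi, hij, hjn, ?_⟩
    rw [h2, hj, hi] at h1
    by_contra hne
    rw [not_or, not_le] at hne
    have h3 : r ∣ p ^ j - p ^ i := (Nat.modEq_iff_dvd' (Nat.pow_le_pow_right hp.out.pos hij)).1 h1.symm
    rw [show p ^ j - p ^ i = p ^ i * (p ^ (j - i) - 1) by
      rw [Nat.mul_sub, mul_one, ← pow_add, Nat.add_sub_cancel' hij]] at h3
    rcases hr.1.dvd_mul.1 h3 with h4 | h4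
    · exact hrp (hr.1.dvd_of_dvd_pow h4)
    · exact hr.2.2 (j - i) (by omega) (by omega) h4
  have htop : Nat.card (⊤ : Subgroup Ω) = p ^ n := by rw [Subgroup.card_top, hcard]
  obtain ⟨i, j, hj, hi, hij, -, hcases⟩ := key ⊤ fun x _ => Subgroup.mem_top _
  rw [htop] at hj
  have hjn : j = n := (Nat.pow_right_injective hp.out.two_le hj).symm
  have hFix : Fix = ⊥ := by
    have hne : Fix ≠ ⊤ := fun h => by
      have h1 : g = 1 := hfaith g fun ω => (h.symm ▸ Subgroup.mem_top ω : ω ∈ Fix)
      rw [h1, orderOf_one] at hg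
      exact hr.1.one_lt.ne hg
    rw [top_inf_eq] at hi
    have hlt : i ≠ n := fun h => hne (Subgroup.eq_top_of_card_eq _ (by rw [hi, h, hcard]))
    exact Subgroup.card_eq_one.1 (by rw [hi, show i = 0 by omega, pow_zero])
  intro U hU
  obtain ⟨i, j, hj, hi, hij, hjn, hcases⟩ := key U hU
  rw [hFix, inf_bot_eq, Subgroup.card_bot] at hi
  have hi0 : i = 0 := Nat.pow_right_injective hp.out.two_le (hi.symm.trans (pow_zero p).symm)
  rcases hcases with h | h
  · exact Or.inl (Subgroup.card_eq_one.1 (by rw [hj, ← h, hi0, pow_zero]))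
  · exact Or.inr (Subgroup.eq_top_of_card_eq _ (by rw [hj, hcard, show j = n by omega]))

include hexp in
/-- In dimension two with `p + 1` a power of two some element is irreducible. -/
theorem exists_irred_two (hn : n = 2) (hE : ¬ p ∣ Nat.card E) {m : ℕ} (hm : p + 1 = 2 ^ m)
    (hp2 : p ≠ 2) (hdvd : p ^ 2 - 1 ∣ Nat.card E) : ∃ g : E, Irred Ω g := by
  classical
  subst hn
  by_contra hno
  push Not at hno
  have hp3 : 3 ≤ p := by have := hp.out.two_le; omega
  have hm2 : 2 ≤ m := by
    by_contra h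
    have := Nat.pow_le_pow_right two_pos (show m ≤ 1 by omega)
    omega
  have h4 : 4 ∣ p + 1 := hm ▸ pow_dvd_pow 2 hm2
  obtain ⟨S⟩ : Nonempty (Sylow 2 E) := inferInstance
  have hS : 8 ∣ Nat.card S := by
    have h8 : 8 ∣ Nat.card E := by
      refine dvd_trans ?_ hdvd
      have h2 : p ^ 2 - 1 = (p + 1) * (p - 1) := by rw [← Nat.sq_sub_sq, one_pow]
      rw [h2, show (8 : ℕ) = 4 * 2 by norm_num]
      exact mul_dvd_mul h4 (by omega)
    exact Sylow.pow_dvd_card_of_pow_dvd_card S (n := 3) h8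
  -- an eigenvalue of a two-element is a square root of one
  have heig : ∀ (k : ℕ) (i : ZMod p), i ^ (2 ^ k) = 1 → i ^ 2 = 1 := by
    intro k i hi
    have hi0 : i ≠ 0 := fun h => by
      rw [h, zero_pow (by positivity)] at hi
      exact zero_ne_one hi
    have h1 : orderOf i ∣ Nat.gcd (2 ^ k) (p - 1) :=
      Nat.dvd_gcd (orderOf_dvd_of_pow_eq_one hi)
        (orderOf_dvd_of_pow_eq_one (ZMod.pow_card_sub_one_eq_one hi0))
    refine orderOf_dvd_iff_pow_eq_one.1 (h1.trans ?_)
    obtain ⟨a, -, ha⟩ := (Nat.dvd_prime_pow Nat.prime_two).1 (Nat.gcd_dvd_left (2 ^ k) (p - 1))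
    rw [ha]
    rcases le_or_gt a 1 with h | h
    · exact (pow_dvd_pow 2 h).trans (by norm_num)
    · have : 4 ∣ p - 1 := (show 4 ∣ 2 ^ a from pow_dvd_pow 2 h).trans (ha ▸ Nat.gcd_dvd_right _ _)
      omega
  have hpow : ∀ (ω : Ω) (a b : ℕ), (a : ZMod p) = b → ω ^ a = ω ^ b := fun ω a b h =>
    pow_eq_pow_iff_modEq.2 (((ZMod.natCast_eq_natCast_iff _ _ _).1 h).of_dvd
      (orderOf_dvd_of_pow_eq_one (hexp ω)))
  -- the elements of the Sylow group are involutions
  have hinv : ∀ s ∈ (S : Subgroup E), s * s = 1 := by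
    intro s hs
    obtain ⟨k, hk⟩ := S.2 ⟨s, hs⟩
    have hsk : s ^ 2 ^ k = 1 := congrArg Subtype.val hk
    obtain ⟨L, hL, hLb, hLt⟩ : ∃ L : Subgroup Ω, Stab s L ∧ L ≠ ⊥ ∧ L ≠ ⊤ := by
      by_contra h
      push Not at h
      exact hno s fun U hU => or_iff_not_imp_left.2 (h U hU)
    have hLcard : Nat.card L = p := by
      obtain ⟨j, hj, hjL⟩ := (Nat.dvd_prime_pow hp.out).1 (hcard ▸ Subgroup.card_subgroup_dvd_card L)
      rw [hjL]
      interval_cases j
      · exact absurd (Subgroup.card_eq_one.1 (by rw [hjL, pow_zero])) hLb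
      · rw [pow_one]
      · exact absurd (Subgroup.eq_top_of_card_eq _ (by rw [hjL, hcard])) hLt
    haveI : IsCyclic L := isCyclic_of_prime_card hLcard
    obtain ⟨⟨l, hl⟩, hgen⟩ := IsCyclic.exists_generator (α := L)
    have hl1 : l ≠ 1 := fun h => by
      refine hLb ((Subgroup.eq_bot_iff_forall _).2 fun x hx => ?_)
      obtain ⟨i, hi⟩ := Subgroup.mem_zpowers_iff.1 (hgen ⟨x, hx⟩)
      have := congrArg Subtype.val hi
      simp only [Subgroup.coe_zpow, h, one_zpow] at this
      exact this.symm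
    have hLpow : ∀ x ∈ L, ∃ a : ℕ, x = l ^ a := fun x hx => by
      obtain ⟨a, ha⟩ := (mem_powers_iff_mem_zpowers (G := L)).2 (hgen ⟨x, hx⟩)
      exact ⟨a, (congrArg Subtype.val ha).symm⟩
    -- iterate
    have hit : ∀ (η : Ω) (b : ℕ), s • η * (η ^ b)⁻¹ ∈ L → ∀ i, s ^ i • η * (η ^ (b ^ i))⁻¹ ∈ L := by
      intro η b hb i
      induction i with
      | zero => simp
      | succ i ih =>
        have h1 := hL _ ih
        rw [smul_mul', smul_inv', smul_pow', ← mul_smul, ← pow_succ'] at h1
        have h2 := L.mul_mem h1 (L.pow_mem hb (b ^ i))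
        rw [mul_pow, inv_pow, ← pow_mul, ← mul_assoc, inv_mul_cancel_right, ← pow_succ'] at h2
        exact h2
    obtain ⟨a, ha⟩ := hLpow _ (hL l hl)
    have ha2 : (a : ZMod p) ^ 2 = 1 := by
      refine heig k _ ?_
      have h1 : ∀ i, s ^ i • l = l ^ (a ^ i) := fun i => by
        induction i with
        | zero => simp
        | succ i ih => rw [pow_succ', mul_smul, ih, smul_pow', ha, ← pow_mul, ← pow_succ']
      have h2 := h1 (2 ^ k)
      rw [hsk, one_smul] at h2
      have h3 := pow_eq_pow_iff_modEq.1 (h2.symm.trans (pow_one l).symm)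
      rw [orderOf_eq_prime (hexp l) hl1, ← ZMod.natCast_eq_natCast_iff] at h3
      simpa using h3
    have hfixL : ∀ x ∈ L, (s * s) • x = x := fun x hx => by
      obtain ⟨i, rfl⟩ := hLpow x hx
      have h1 : (s * s) • l = l := by
        rw [mul_smul, ha, smul_pow', ha, ← pow_mul,
          hpow l (a * a) 1 (by push_cast; rw [← sq, ha2]), pow_one]
      rw [smul_pow', h1]
    -- the quotient by the line
    have hquot : ∀ η : Ω, (s * s) • η * η⁻¹ ∈ L := by
      intro η
      by_cases hη : η ∈ L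
      · exact L.mul_mem (by rw [hfixL η hη]; exact hη) (L.inv_mem hη)
      have hK : L ⊔ Subgroup.zpowers η = ⊤ := by
        obtain ⟨j, hj, hjK⟩ := (Nat.dvd_prime_pow hp.out).1
          (hcard ▸ Subgroup.card_subgroup_dvd_card (L ⊔ Subgroup.zpowers η))
        refine Subgroup.eq_top_of_card_eq _ ?_
        rw [hjK, hcard]
        have hle : L ≤ L ⊔ Subgroup.zpowers η := le_sup_left
        interval_cases j
        · exact absurd (le_bot_iff.1 (hle.trans_eq (Subgroup.card_eq_one.1 (by rw [hjK, pow_zero])))) hLb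
        · refine absurd ?_ hη
          rw [Subgroup.eq_of_le_of_card_ge hle (by rw [hjK, hLcard, pow_one])]
          exact Subgroup.mem_sup_right (Subgroup.mem_zpowers η)
        · rfl
      obtain ⟨y, hy, z, hz, hyz⟩ := Subgroup.mem_sup.1 (hK.symm ▸ Subgroup.mem_top (s • η))
      obtain ⟨b, rfl⟩ := (mem_powers_iff_mem_zpowers (G := Ω)).2 hz
      have hb : s • η * (η ^ b)⁻¹ ∈ L := by
        rw [← hyz]
        simpa using hy
      have hb2 : (b : ZMod p) ^ 2 = 1 := by
        refine heig k _ ?_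
        have h2 := hit η b hb (2 ^ k)
        rw [hsk, one_smul] at h2
        by_contra hne
        -- a non-trivial power of `η` in `L` puts `η` into `L`
        set c : ZMod p := 1 - (b : ZMod p) ^ 2 ^ k with hc
        have hc0 : c ≠ 0 := fun h => hne (sub_eq_zero.1 h).symm
        have h3 : η ^ c.val ∈ L := by
          have h4 : η ^ c.val = η * (η ^ (b ^ 2 ^ k))⁻¹ := by
            rw [eq_mul_inv_iff_mul_eq, ← pow_add]
            conv_rhs => rw [← pow_one η]
            refine hpow η _ _ ?_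
            push_cast
            rw [ZMod.natCast_zmod_val, hc]
            ring
          rwa [h4]
        refine hη ?_
        have h5 := L.pow_mem h3 (c⁻¹).val
        rwa [← pow_mul, hpow η (c.val * (c⁻¹).val) 1 (by
          push_cast
          rw [ZMod.natCast_zmod_val, ZMod.natCast_zmod_val, mul_inv_cancel₀ hc0]), pow_one] at h5
      have h6 := hit η b hb 2
      rw [hpow η (b ^ 2) 1 (by push_cast; rw [hb2]), pow_one, pow_two] at h6
      exact h6
    refine hfaith _ fun η => ?_
    set c := (s * s) • η * η⁻¹ with hc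
    have hit2 : ∀ i, (s * s) ^ i • η = c ^ i * η := fun i => by
      induction i with
      | zero => simp
      | succ i ih =>
        rw [pow_succ', mul_smul, ih, smul_mul', smul_pow', hfixL c (hquot η),
          show (s * s) • η = c * η by rw [hc, inv_mul_cancel_right], ← mul_assoc, ← pow_succ]
    have h7 := hit2 (orderOf (s * s))
    rw [pow_orderOf_eq_one, one_smul, right_eq_mul] at h7
    have h8 : c = 1 := by
      rw [← orderOf_eq_one_iff]
      refine Nat.eq_one_of_dvd_coprimes (Nat.Coprime.symm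
        (hp.out.coprime_iff_not_dvd.2 fun h => hE (h.trans (orderOf_dvd_natCard (s * s)))))
        (orderOf_dvd_of_pow_eq_one h7) (orderOf_dvd_of_pow_eq_one (hexp c))
    rwa [hc, mul_inv_eq_one] at h8
  -- an elementary abelian group of diagonal maps has order at most four
  have hcomm : ∀ s ∈ (S : Subgroup E), ∀ t ∈ (S : Subgroup E), s * t = t * s := fun s hs t ht => by
    have h1 : ∀ x ∈ (S : Subgroup E), x⁻¹ = x := fun x hx => inv_eq_of_mul_eq_one_right (hinv x hx)
    calc s * t = (s * t)⁻¹ := (h1 _ (mul_mem hs ht)).symm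
      _ = t⁻¹ * s⁻¹ := mul_inv_rev s t
      _ = t * s := by rw [h1 s hs, h1 t ht]
  have hodd : Odd p := hp.out.odd_of_ne_two hp2
  obtain ⟨q, hq⟩ := hodd
  have hhalf : ∀ w : Ω, (w * w) ^ (q + 1) = w := fun w => by
    rw [← pow_two, ← pow_mul, hpow w (2 * (q + 1)) 1 (by
      rw [show 2 * (q + 1) = p + 1 by omega]; push_cast; rw [ZMod.natCast_self, zero_add]), pow_one]
  obtain ⟨s₀, hs₀, hs₁, hs₂⟩ : ∃ s ∈ (S : Subgroup E), (∃ w : Ω, s • w ≠ w) ∧
      ∃ w : Ω, s • w ≠ w⁻¹ := by
    by_contra h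
    push Not at h
    have hle : Nat.card S ≤ Nat.card Prop := Nat.card_le_card_of_injective
      (fun s : S => ∀ w : Ω, (s : E) • w = w) fun s t he => by
        have h1 : ∀ w : Ω, (s : E) • w = (t : E) • w := fun w => by
          by_cases hP : ∀ w : Ω, (s : E) • w = w
          · rw [hP w, (Eq.mp he hP : ∀ w : Ω, (t : E) • w = w) w]
          · have hQ : ¬ ∀ w : Ω, (t : E) • w = w := fun hQ => hP (Eq.mpr he hQ)
            push Not at hP hQ
            rw [h s s.2 hP w, h t t.2 hQ w]
        refine Subtype.ext (inv_mul_eq_one.1 (hfaith _ fun w => ?_))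
        rw [mul_smul, ← h1, inv_smul_smul]
    have h2 : Nat.card Prop = 2 := by simp [Nat.card_eq_fintype_card]
    have := Nat.le_of_dvd Nat.card_pos hS
    omega
  let F : Subgroup Ω :=
    { carrier := {x | s₀ • x = x}
      one_mem' := smul_one s₀
      mul_mem' := fun {x y} hx hy => by
        show s₀ • (x * y) = x * y
        rw [smul_mul', hx, hy]
      inv_mem' := fun {x} hx => by
        show s₀ • x⁻¹ = x⁻¹
        rw [smul_inv', hx] }
  let I : Subgroup Ω :=
    { carrier := {x | s₀ • x = x⁻¹}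
      one_mem' := by show s₀ • (1 : Ω) = 1⁻¹; rw [smul_one, inv_one]
      mul_mem' := fun {x y} hx hy => by
        show s₀ • (x * y) = (x * y)⁻¹
        rw [smul_mul', hx, hy, mul_inv]
      inv_mem' := fun {x} hx => by
        show s₀ • x⁻¹ = x⁻¹⁻¹
        rw [smul_inv', hx] }
  have hss : ∀ x : Ω, s₀ • s₀ • x = x := fun x => by rw [← mul_smul, hinv s₀ hs₀, one_smul]
  have hFw : ∀ w, w * s₀ • w ∈ F := fun w => by
    show s₀ • (w * s₀ • w) = w * s₀ • w
    rw [smul_mul', hss, mul_comm]
  have hIw : ∀ w, w * (s₀ • w)⁻¹ ∈ I := fun w => by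
    show s₀ • (w * (s₀ • w)⁻¹) = (w * (s₀ • w)⁻¹)⁻¹
    rw [smul_mul', smul_inv', hss, mul_inv, inv_inv, mul_comm]
  have hgen : ∀ w : Ω, ∃ f ∈ F, ∃ i ∈ I, w = f * i := fun w =>
    ⟨_, F.pow_mem (hFw w) (q + 1), _, I.pow_mem (hIw w) (q + 1), by
      rw [← mul_pow, mul_mul_mul_comm, mul_inv_cancel, mul_one, hhalf]⟩
  have hFI : F ⊓ I = ⊥ := (Subgroup.eq_bot_iff_forall _).2 fun x hx => by
    have h1 : x = x⁻¹ := (show s₀ • x = x from hx.1).symm.trans hx.2
    rw [← hhalf x]
    nth_rw 2 [h1]
    rw [mul_inv_cancel, one_pow]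
  have hline : ∀ U V : Subgroup Ω, U ⊓ V = ⊥ → U ≠ ⊥ → V ≠ ⊥ → Nat.card U = p := by
    intro U V hUV hU hV
    obtain ⟨j, hj, hjU⟩ := (Nat.dvd_prime_pow hp.out).1 (hcard ▸ Subgroup.card_subgroup_dvd_card U)
    interval_cases j
    · exact absurd (Subgroup.card_eq_one.1 (by rw [hjU, pow_zero])) hU
    · rwa [pow_one] at hjU
    · rw [Subgroup.eq_top_of_card_eq U (by rw [hjU, hcard]), top_inf_eq] at hUV
      exact absurd hUV hV
  have hF0 : F ≠ ⊥ := fun h => by
    obtain ⟨w, hw⟩ := hs₂
    have h1 := hFw w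
    rw [h, Subgroup.mem_bot, mul_eq_one_iff_inv_eq] at h1
    exact hw h1.symm
  have hI0 : I ≠ ⊥ := fun h => by
    obtain ⟨w, hw⟩ := hs₁
    have h1 := hIw w
    rw [h, Subgroup.mem_bot, mul_inv_eq_one] at h1
    exact hw h1.symm
  have hsign : ∀ U : Subgroup Ω, Nat.card U = p →
      (∀ t ∈ (S : Subgroup E), ∀ x ∈ U, t • x ∈ U) → ∀ t ∈ (S : Subgroup E),
      (∀ x ∈ U, t • x = x) ∨ ∀ x ∈ U, t • x = x⁻¹ := by
    intro U hU hst t ht
    haveI : IsCyclic U := isCyclic_of_prime_card hU
    obtain ⟨⟨l, hl⟩, hgenU⟩ := IsCyclic.exists_generator (α := U)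
    have hUpow : ∀ x ∈ U, ∃ a : ℕ, x = l ^ a := fun x hx => by
      obtain ⟨a, ha⟩ := (mem_powers_iff_mem_zpowers (G := U)).2 (hgenU ⟨x, hx⟩)
      exact ⟨a, (congrArg Subtype.val ha).symm⟩
    rcases eq_or_ne l 1 with rfl | hl1
    · left
      intro x hx
      obtain ⟨a, rfl⟩ := hUpow x hx
      simp
    obtain ⟨a, ha⟩ := hUpow _ (hst t ht l hl)
    have ha2 : (a : ZMod p) ^ 2 = 1 := by
      have h2 : l ^ (a * a) = l := by
        rw [pow_mul, ← ha, ← smul_pow', ← ha, ← mul_smul, hinv t ht, one_smul]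
      have h3 := pow_eq_pow_iff_modEq.1 (h2.trans (pow_one l).symm)
      rw [orderOf_eq_prime (hexp l) hl1, ← ZMod.natCast_eq_natCast_iff] at h3
      push_cast at h3
      rw [sq]; exact h3
    rcases sq_eq_one_iff.1 ha2 with h | h
    · left
      intro x hx
      obtain ⟨i, rfl⟩ := hUpow x hx
      rw [smul_pow', ha, hpow l a 1 (by rw [h, Nat.cast_one]), pow_one]
    · right
      intro x hx
      obtain ⟨i, rfl⟩ := hUpow x hx
      rw [smul_pow', ha, ← inv_pow, eq_inv_of_mul_eq_one_left (a := l ^ a) (b := l) (by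
        rw [← pow_succ, hpow l (a + 1) 0 (by push_cast; rw [h, neg_add_cancel]), pow_zero])]
  have hcs : ∀ t ∈ (S : Subgroup E), ∀ x : Ω, t • s₀ • x = s₀ • t • x := fun t ht x => by
    rw [← mul_smul, ← mul_smul, hcomm t ht s₀ hs₀]
  have hSF := hsign F (hline F I hFI hF0 hI0) fun t ht x (hx : s₀ • x = x) => by
    show s₀ • t • x = t • x
    rw [← hcs t ht, hx]
  have hSI := hsign I (hline I F (by rwa [inf_comm]) hI0 hF0) fun t ht x (hx : s₀ • x = x⁻¹) => by
    show s₀ • t • x = (t • x)⁻¹
    rw [← hcs t ht, hx, smul_inv']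
  have hle : Nat.card S ≤ Nat.card (Prop × Prop) := Nat.card_le_card_of_injective
    (fun t : S => ((∀ x ∈ F, (t : E) • x = x), (∀ x ∈ I, (t : E) • x = x))) fun s t he => by
      simp only [Prod.mk.injEq, eq_iff_iff] at he
      have hres : ∀ U : Subgroup Ω, (∀ t ∈ (S : Subgroup E),
          (∀ x ∈ U, t • x = x) ∨ ∀ x ∈ U, t • x = x⁻¹) →
          ((∀ x ∈ U, (s : E) • x = x) ↔ ∀ x ∈ U, (t : E) • x = x) →
          ∀ x ∈ U, (s : E) • x = (t : E) • x := by
        intro U hU hiff x hx
        by_cases hP : ∀ x ∈ U, (s : E) • x = x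
        · rw [hP x hx, hiff.1 hP x hx]
        · rw [(hU s s.2).resolve_left hP x hx, (hU t t.2).resolve_left (fun h => hP (hiff.2 h)) x hx]
      refine Subtype.ext (inv_mul_eq_one.1 (hfaith _ fun w => ?_))
      obtain ⟨f, hf, i, hi, rfl⟩ := hgen w
      rw [mul_smul, smul_eq_iff_eq_inv_smul, inv_inv, smul_mul', smul_mul', hres F hSF he.1 f hf,
        hres I hSI he.2 i hi]
  have h2 : Nat.card (Prop × Prop) = 4 := by simp [Nat.card_eq_fintype_card]
  have := Nat.le_of_dvd Nat.card_pos hS
  omega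

end CfsgLib.SmallBlocks.NormalDef
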