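import Cfsg.Agent.Lib.IBr.PPrime
import Cfsg.Agent.Lib.CharTheory.Linear

/-!
# Lifting the vanishing of a linear projection

For a group of order prime to `p`, if the twisted sum of a representation over the residue field
vanishes then so does the twisted sum of the Brauer character.
-/

set_option autoImplicit false
set_option linter.style.haveILetI false
set_option linter.unusedSectionVars false

open Cfsg Finset Module CfsgLib.IBr CfsgLib.CharTheory
open scoped ComplexConjugate

namespace CfsgLib.SmallBlocks.NormalDef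

universe u

variable {p : ℕ} {M : Ideal AlgInt} {S : PSys p M}
variable {Q : Type u} [Group Q] [Fintype Q]

/-- The residue of a root of unity. -/
noncomputable def resRoot (S : PSys p M) (z : ℂ) : S.K :=
  open Classical in
  if h : z ∈ S.V then IsLocalRing.residue S.V ⟨z, h⟩ else 0

theorem resRoot_one : resRoot S 1 = 1 := by
  rw [resRoot, dif_pos (one_mem S.V)]
  exact map_one _

theorem resRoot_mul {z w : ℂ} (hz : z ∈ S.V) (hw : w ∈ S.V) :
    resRoot S (z * w) = resRoot S z * resRoot S w := by
  rw [resRoot, resRoot, resRoot, dif_pos hz, dif_pos hw, dif_pos (mul_mem hz hw), ← map_mul]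
  rfl

theorem mem_of_pow_eq_one {z : ℂ} (hz : z ^ S.m = 1) : z ∈ S.V := by
  haveI : NeZero S.m := ⟨S.m_pos.ne'⟩
  obtain ⟨l, -, rfl⟩ := S.isPrimitiveRoot_root.eq_pow_of_pow_eq_one hz
  exact pow_mem S.root_mem l

theorem eq_one_of_resRoot {z : ℂ} (hz : z ^ S.m = 1) (h : resRoot S z = 1) : z = 1 := by
  haveI : NeZero S.m := ⟨S.m_pos.ne'⟩
  obtain ⟨l, -, rfl⟩ := S.isPrimitiveRoot_root.eq_pow_of_pow_eq_one hz
  by_contra hne
  have hl : ¬ S.m ∣ l := fun hd => hne ((S.isPrimitiveRoot_root.pow_eq_one_iff_dvd l).2 hd)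
  have h1 : S.rootK ^ l = 1 := by
    rw [← h, resRoot, dif_pos (pow_mem S.root_mem l), PSys.rootK, ← map_pow]
    rfl
  have h2 := S.sum_rootK_pow hl
  simp only [h1, one_pow, Finset.sum_const, Finset.card_range, nsmul_eq_mul, mul_one] at h2
  exact S.natCast_ne_zero S.hm h2

/-- A twisted projection killing a representation kills its Brauer character. -/
theorem sum_mul_brau_eq_zero (hQ : S.Fits Q) (hp' : ¬ p ∣ Nat.card Q) (b : Q →* ℂˣ)
    (hb : ∀ y, (b y : ℂ) ^ S.m = 1) {W : Type*} [AddCommGroup W] [Module S.K W]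
    [FiniteDimensional S.K W] (ρ : Representation S.K Q W)
    (h0 : ∑ y : Q, resRoot S (b y : ℂ) • ρ y = 0) :
    ∑ y : Q, (b y : ℂ) * S.brau ρ y = 0 := by
  classical
  set n := finrank S.K W with hn
  let φ : W ≃ₗ[S.K] (Fin n → S.K) := (Module.finBasisOfFinrankEq S.K W hn.symm).equivFun
  let σ : Representation S.K Q (Fin n → S.K) := (φ.conjAlgEquiv S.K).toAlgHom.toMonoidHom.comp ρ
  have hσ : ∀ g x, σ g (φ x) = φ (ρ g x) := fun g x => by
    show φ (ρ g (φ.symm (φ x))) = _
    rw [φ.symm_apply_apply]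
  have h0σ : PSys.act σ (fun y => resRoot S (b y : ℂ)) = (0 : S.K) • 1 := by
    refine LinearMap.ext fun v => ?_
    obtain ⟨x, rfl⟩ := φ.surjective v
    have h1 := congrArg φ (LinearMap.congr_fun h0 x)
    simp only [LinearMap.sum_apply, LinearMap.smul_apply, LinearMap.zero_apply, map_sum, map_smul,
      map_zero] at h1
    simpa [PSys.act, hσ] using h1
  obtain ⟨l, hl, hsum, hann⟩ := hQ.exists_factors n (Fin n → S.K) σ (Module.finrank_fin_fun S.K)
  haveI := Fintype.ofFinite (IrrCharacter Q)
  choose s hs hsχ using fun χ => hQ.exists_simple_of_irr hp' χ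
  have hirr : ∀ t ∈ l, ∃ χ : IrrCharacter Q, S.brau t.2 = (χ : Q → ℂ) := by
    intro t ht
    by_contra hnot
    push Not at hnot
    let F : Option (IrrCharacter Q) → S.CoordRep Q := fun o => o.elim t s
    have hF : ∀ o, PSys.Simple (F o).2 := fun o => by
      cases o
      · exact hl t ht
      · exact hs _
    have hinj : Function.Injective fun o => S.brau (F o).2 := by
      rintro (_ | χ) (_ | ψ) h
      · rfl
      · exact absurd (h.trans (hsχ ψ)) (hnot ψ)
      · exact absurd (h.symm.trans (hsχ χ)) (hnot χ)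
      · have h' : (χ : Q → ℂ) = (ψ : Q → ℂ) := (hsχ χ).symm.trans (h.trans (hsχ ψ))
        rw [Subtype.ext h']
    have hcf : IsClassFunction Q (S.brau t.2) := fun g h => PSys.brau_conj_arg t.2 g h
    let a : Option (IrrCharacter Q) → ℂ := fun o =>
      o.elim (-1) fun χ => classInner (S.brau t.2) (χ : Q → ℂ)
    have h2 := hQ.eq_zero_of_sum F hF hinj a (fun g => by
      rw [Fintype.sum_option]
      show (-1 : ℂ) * S.brau t.2 g +
        ∑ χ : IrrCharacter Q, classInner (S.brau t.2) (χ : Q → ℂ) * S.brau (s χ).2 g = 0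
      have e := congrFun (CfsgLib.CharTheory.eq_sum_classInner (f := S.brau t.2) hcf) g
      simp only [Finset.sum_apply, Pi.smul_apply, smul_eq_mul] at e
      rw [Finset.sum_congr rfl fun χ _ => by rw [hsχ], ← e]
      ring) none
    exact neg_ne_zero.2 one_ne_zero h2
  have hzero : ∀ t ∈ l, ∑ y : Q, (b y : ℂ) * S.brau t.2 y = 0 := by
    intro t ht
    obtain ⟨χ, hχ⟩ := hirr t ht
    by_contra hne
    let lam : IrrCharacter Q := ⟨fun y => ((b⁻¹ : Q →* ℂˣ) y : ℂ),
      isIrrCharacter_linear _⟩
    have hconj : ∀ y, conj ((lam : Q → ℂ) y) = (b y : ℂ) := fun y => by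
      show conj (((b y)⁻¹ : ℂˣ) : ℂ) = _
      rw [Units.val_inv_eq_inv_val, map_inv₀]
      exact inv_eq_of_mul_eq_one_left (by
        rw [mul_comm, Complex.conj_mul' , Complex.norm_eq_one_of_pow_eq_one (hb y) S.m_pos.ne']
        norm_num)
    have hχl : χ = lam := by
      by_contra hne'
      refine hne ?_
      have h2 := classInner_irrCharacter χ lam
      rw [if_neg hne', classInner, mul_eq_zero] at h2
      rw [← h2.resolve_left (inv_ne_zero (Nat.cast_ne_zero.2 Nat.card_pos.ne'))]
      refine Finset.sum_congr rfl fun y _ => ?_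
      rw [hχ, hconj, mul_comm]
    have h3 := congrArg (LinearMap.trace S.K _) (hann _ _ h0σ t ht)
    simp only [PSys.act, map_sum, map_smul, zero_smul, map_zero, smul_eq_mul] at h3
    have h4 : ∀ y : Q, resRoot S (b y : ℂ) * LinearMap.trace S.K _ (t.2 y) = 1 := by
      intro y
      obtain ⟨v, hv, hvr⟩ := hQ.residue_brau t.2 y
      rw [hχ, hχl] at hv
      rw [← hvr, resRoot, dif_pos (mem_of_pow_eq_one (hb y)), ← map_mul, ← map_one (IsLocalRing.residue S.V)]
      congr 1
      refine Subtype.ext ?_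
      show (b y : ℂ) * (v : ℂ) = 1
      rw [hv]
      exact Units.mul_inv (b y)
    rw [Finset.sum_congr rfl fun y _ => h4 y, Finset.sum_const, Finset.card_univ, nsmul_one,
      ← Nat.card_eq_fintype_card] at h3
    exact S.natCast_ne_zero hp' h3
  rw [Finset.sum_congr rfl fun y _ => show (b y : ℂ) * S.brau ρ y
    = (l.map fun t => (b y : ℂ) * S.brau t.2 y).sum from by
      rw [List.sum_map_mul_left, ← hsum, PSys.brau_congr φ ρ σ hσ]]
  clear hsum hl hann hirr
  induction l with
  | nil => simp
  | cons a t ih =>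
    simp only [List.map_cons, List.sum_cons, Finset.sum_add_distrib]
    rw [hzero a List.mem_cons_self, zero_add, ih fun x hx => hzero x (List.mem_cons_of_mem _ hx)]

end CfsgLib.SmallBlocks.NormalDef
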