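import Cfsg.Agent.Lib.SmallBlocks.NormalDef.Irreducible

/-!
# At most three weighted orbits

A `p'`-group acts faithfully on an abelian `p`-group with weights: the weight of a point is the
number of good classes of its stabilizer. If the weighted number of orbits is at most three, the
abelian group has order at most three.
-/

set_option autoImplicit false
set_option linter.style.haveILetI false
set_option linter.unusedSectionVars false

open Cfsg Finset CfsgLib.IBr

namespace CfsgLib.SmallBlocks.NormalDef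

universe u v

variable {E : Type u} [Group E] [Fintype E] {Λ : Type v} [CommGroup Λ] [Fintype Λ]
  [MulDistribMulAction E Λ]

/-- The elements of exponent `p`. -/
def pTorsion (Λ : Type v) [CommGroup Λ] (p : ℕ) : Subgroup Λ := (powMonoidHom p).ker

theorem mem_pTorsion {p : ℕ} {x : Λ} : x ∈ pTorsion Λ p ↔ x ^ p = 1 := Iff.rfl

/-- The action on the elements of exponent `p`. -/
@[reducible] def pTorsionAction (p : ℕ) : MulDistribMulAction E (pTorsion Λ p) where
  smul y x := ⟨y • (x : Λ), by rw [mem_pTorsion, ← smul_pow', mem_pTorsion.1 x.2, smul_one]⟩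
  one_smul x := Subtype.ext (one_smul E (x : Λ))
  mul_smul a b x := Subtype.ext (mul_smul a b (x : Λ))
  smul_one a := Subtype.ext (smul_one a)
  smul_mul a x y := Subtype.ext (smul_mul' a (x : Λ) (y : Λ))

variable (m : Λ → ℕ) (hm : ∀ ω, 0 < m ω)
include hm

open scoped Classical in
/-- An orbit weighs at least the group order, with equality only for unit weights. -/
theorem le_sum_orbit {O : Finset Λ} {v : Λ} (hO : ∀ x, x ∈ O ↔ x ∈ MulAction.orbit E v) :
    Nat.card E ≤ ∑ x ∈ O, m x * Nat.card (MulAction.stabilizer E x) ∧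
      ((∃ x ∈ O, 1 < m x) → Nat.card E < ∑ x ∈ O, m x * Nat.card (MulAction.stabilizer E x)) := by
  have hs : ∀ x ∈ O, Nat.card (MulAction.stabilizer E x) = Nat.card (MulAction.stabilizer E v) := by
    intro x hx
    have h1 := MulAction.card_orbit_mul_card_stabilizer_eq_card_group E x
    have h2 := MulAction.card_orbit_mul_card_stabilizer_eq_card_group E v
    simp only [← Nat.card_eq_fintype_card] at h1 h2
    rw [MulAction.orbit_eq_iff.2 ((hO x).1 hx)] at h1
    exact Nat.eq_of_mul_eq_mul_left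
      (@Nat.card_pos _ ⟨⟨v, MulAction.mem_orbit_self v⟩⟩ _) (h1.trans h2.symm)
  have hcard : O.card * Nat.card (MulAction.stabilizer E v) = Nat.card E := by
    have h2 := MulAction.card_orbit_mul_card_stabilizer_eq_card_group E v
    simp only [← Nat.card_eq_fintype_card] at h2
    rw [← h2]
    congr 1
    rw [← Nat.card_eq_finsetCard O]
    exact Nat.card_congr (Equiv.subtypeEquivRight hO)
  have hone : ∑ x ∈ O, 1 * Nat.card (MulAction.stabilizer E x) = Nat.card E := by
    rw [Finset.sum_congr rfl fun x hx => by rw [one_mul, hs x hx], Finset.sum_const, smul_eq_mul, hcard]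
  refine ⟨hone ▸ Finset.sum_le_sum fun x _ => Nat.mul_le_mul_right _ (hm x), fun ⟨x, hx, hx1⟩ => ?_⟩
  exact hone ▸ Finset.sum_lt_sum (fun y _ => Nat.mul_le_mul_right _ (hm y))
    ⟨x, hx, Nat.mul_lt_mul_of_pos_right hx1 Nat.card_pos⟩

open scoped Classical in
/-- The order bound. -/
theorem card_le_three {p : ℕ} [hp : Fact p.Prime] (hp2 : p ≠ 2) {M : Ideal AlgInt}
    (hM : IsPModular p M) (hE : ¬ p ∣ Nat.card E) (hΛ : IsPGroup p Λ) (τ : Twist E)
    (hfaith : ∀ x : E, (∀ ω : Λ, x • ω = ω) → x = 1)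
    (hone : ∑ y ∈ univ.filter τ.Good, Nat.card (Subgroup.centralizer ({y} : Set E)) ≤
      m 1 * Nat.card E)
    (hbad1 : ∀ ω : Λ, ω ≠ 1 → m ω = 1 → ∀ x : E, x ≠ 1 → x • ω = ω →
      ∃ y, Commute x y ∧ y • ω = ω ∧ τ.β x y ≠ 1)
    (hbound : ∑ ω : Λ, m ω * Nat.card (MulAction.stabilizer E ω) ≤ 3 * Nat.card E) :
    Nat.card Λ ≤ 3 := by
  by_contra hbig
  push Not at hbig
  set w : Λ → ℕ := fun x => m x * Nat.card (MulAction.stabilizer E x) with hw
  have hEpos : 0 < Nat.card E := Nat.card_pos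
  have hw1 : w 1 = m 1 * Nat.card E := by
    show m 1 * Nat.card (MulAction.stabilizer E (1 : Λ)) = _
    rw [show MulAction.stabilizer E (1 : Λ) = ⊤ from eq_top_iff.2 fun y _ => smul_one y,
      Subgroup.card_top]
  -- two disjoint orbits already exhaust the bound
  let orb : Λ → Finset Λ := fun v => univ.filter (· ∈ MulAction.orbit E v)
  have horb : ∀ v x, x ∈ orb v ↔ x ∈ MulAction.orbit E v := fun v x => by simp [orb]
  have hle : ∀ T : Finset Λ, ∑ x ∈ T, w x ≤ 3 * Nat.card E := fun T =>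
    le_trans (Finset.sum_le_sum_of_subset (Finset.subset_univ T)) hbound
  have h1notmem : ∀ v : Λ, v ≠ 1 → (1 : Λ) ∉ orb v := fun v hv h => by
    obtain ⟨y, hy⟩ := (horb v 1).1 h
    exact hv (by rw [← inv_smul_smul y v, show y • v = 1 from hy, smul_one])
  have hdisj : ∀ u v : Λ, u ∉ orb v → Disjoint (orb u) (orb v) := fun u v huv => by
    refine Finset.disjoint_left.2 fun x hxu hxv => huv ((horb v u).2 ?_)
    rw [← MulAction.orbit_eq_iff.2 ((horb v x).1 hxv), MulAction.orbit_eq_iff.2 ((horb u x).1 hxu)]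
    exact MulAction.mem_orbit_self u
  have hlo : ∀ v, Nat.card E ≤ ∑ x ∈ orb v, w x ∧
      ((∃ x ∈ orb v, 1 < m x) → Nat.card E < ∑ x ∈ orb v, w x) := fun v =>
    le_sum_orbit m hm (horb v)
  have hsum2 : ∀ u v : Λ, u ≠ 1 → v ≠ 1 → u ∉ orb v →
      m 1 * Nat.card E + ∑ x ∈ orb u, w x + ∑ x ∈ orb v, w x ≤ 3 * Nat.card E := by
    intro u v hu hv huv
    have h := hle (insert 1 (orb u ∪ orb v))
    rw [Finset.sum_insert (by simp [h1notmem u hu, h1notmem v hv]),
      Finset.sum_union (hdisj u v huv), hw1] at h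
    linarith
  -- a non-trivial element of exponent `p`
  obtain ⟨n, hn⟩ := IsPGroup.iff_card.1 hΛ
  obtain ⟨ω₀, hω₀⟩ : ∃ ω : Λ, orderOf ω = p := by
    refine exists_prime_orderOf_dvd_card' p ?_
    rw [hn]
    refine dvd_pow_self p fun h0 => ?_
    rw [h0, pow_zero] at hn
    omega
  have hω₀1 : ω₀ ≠ 1 := fun h => hp.out.one_lt.ne (by rw [← hω₀, h, orderOf_one])
  -- no fixed point
  have hfix : ∀ ω : Λ, (∀ x : E, x • ω = ω) → ω = 1 := by
    intro ω hω
    by_contra hω1
    have hωi : ω⁻¹ ≠ ω := fun h => by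
      have h2 : orderOf ω ∣ 2 := orderOf_dvd_of_pow_eq_one (by
        rw [pow_two]; nth_rw 1 [← h]; exact inv_mul_cancel ω)
      obtain ⟨j, hj⟩ := IsPGroup.iff_orderOf.1 hΛ ω
      rcases (Nat.dvd_prime Nat.prime_two).1 h2 with h3 | h3
      · exact hω1 (orderOf_eq_one_iff.1 h3)
      · rw [h3] at hj
        rcases Nat.eq_zero_or_pos j with rfl | hj0
        · simp at hj
        · exact hp2 ((Nat.prime_dvd_prime_iff_eq hp.out Nat.prime_two).1 (hj ▸ dvd_pow_self p hj0.ne'))
    have hsingle : ∀ z : Λ, (∀ x : E, x • z = z) → ∀ u, u ∈ orb z → u = z := fun z hz u hu => by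
      obtain ⟨y, rfl⟩ := (horb z u).1 hu
      exact hz y
    have hfixi : ∀ x : E, x • ω⁻¹ = ω⁻¹ := fun x => by rw [smul_inv', hω]
    obtain ⟨z, hz⟩ : ∃ z : Λ, z ∉ ({1, ω, ω⁻¹} : Finset Λ) := by
      by_contra h
      push Not at h
      have := Finset.card_le_card (fun x _ => h x : (univ : Finset Λ) ⊆ {1, ω, ω⁻¹})
      rw [Finset.card_univ, ← Nat.card_eq_fintype_card] at this
      exact absurd (this.trans Finset.card_le_three) (by omega)
    simp only [Finset.mem_insert, Finset.mem_singleton, not_or] at hz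
    have hz1 : z ∉ orb ω := fun h => hz.2.1 (hsingle ω hω z h)
    have hz2 : z ∉ orb ω⁻¹ := fun h => hz.2.2 (hsingle _ hfixi z h)
    have hwi : ω⁻¹ ∉ orb ω := fun h => hωi (hsingle ω hω _ h)
    have h := hle (insert 1 (orb z ∪ (orb ω⁻¹ ∪ orb ω)))
    rw [Finset.sum_insert (by simp [h1notmem z hz.1, h1notmem ω hω1, h1notmem _ (inv_ne_one.2 hω1)]),
      Finset.sum_union (Finset.disjoint_union_right.2 ⟨hdisj _ _ hz2, hdisj _ _ hz1⟩),
      Finset.sum_union (hdisj _ _ hwi), hw1] at h
    have := (hlo z).1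
    have := (hlo ω⁻¹).1
    have := (hlo ω).1
    have := hm 1
    nlinarith
  obtain ⟨S, hS, -, -⟩ := CfsgLib.IBr.exists_system hM (Nat.card E) hEpos.ne'
  have hgood1 : ∀ g : E, g ≠ 1 → τ.Good g → 1 < m 1 := by
    intro g hg1 hg
    by_contra h
    have h1 := Finset.sum_le_sum_of_subset
      (f := fun y => Nat.card (Subgroup.centralizer ({y} : Set E)))
      (show ({1, g} : Finset E) ⊆ univ.filter τ.Good by
        intro y hy
        rcases Finset.mem_insert.1 hy with rfl | hy
        · exact mem_filter.2 ⟨mem_univ _, τ.good_one⟩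
        · exact mem_filter.2 ⟨mem_univ _, Finset.mem_singleton.1 hy ▸ hg⟩)
    replace h1 := h1.trans hone
    rw [Finset.sum_pair (Ne.symm hg1),
      show Subgroup.centralizer ({(1 : E)} : Set E) = ⊤ from
        eq_top_iff.2 fun y _ => Twist.mem_cen.2 (Commute.one_left y), Subgroup.card_top] at h1
    have h2 : 0 < Nat.card (Subgroup.centralizer ({g} : Set E)) := Nat.card_pos
    have : m 1 = 1 := by have := hm 1; omega
    rw [this] at h1
    omega
  by_cases htrans : ∀ z : Λ, z ≠ 1 → z ∈ orb ω₀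
  swap
  · -- two orbits: everything has weight one
    push Not at htrans
    obtain ⟨z, hz1, hz⟩ := htrans
    have h := hsum2 z ω₀ hz1 hω₀1 hz
    have hA := hlo z
    have hB := hlo ω₀
    have := hA.1
    have := hB.1
    have hm1 : m 1 = 1 := by
      have := hm 1
      by_contra hne
      have : 2 * Nat.card E ≤ m 1 * Nat.card E := Nat.mul_le_mul_right _ (by omega)
      linarith
    have hall : ∀ x : Λ, x ≠ 1 → m x = 1 := by
      intro x hx
      by_contra hne
      have hx1 : 1 < m x := by have := hm x; omega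
      rw [hm1, one_mul] at h
      by_cases hxz : x ∈ orb z
      · have := hA.2 ⟨x, hxz, hx1⟩
        linarith
      by_cases hxω : x ∈ orb ω₀
      · have := hB.2 ⟨x, hxω, hx1⟩
        linarith
      have h3 := hle (insert 1 (orb x ∪ (orb z ∪ orb ω₀)))
      rw [Finset.sum_insert (by simp [h1notmem x hx, h1notmem z hz1, h1notmem _ hω₀1]),
        Finset.sum_union (Finset.disjoint_union_right.2 ⟨hdisj _ _ hxz, hdisj _ _ hxω⟩),
        Finset.sum_union (hdisj _ _ hz), hw1, hm1, one_mul] at h3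
      have := (hlo x).1
      linarith
    letI := pTorsionAction (E := E) (Λ := Λ) p
    exact false_of_all_bad (Ω := pTorsion Λ p) hE hS τ
      (fun ω hω x hx hxω => by
        obtain ⟨y, hy1, hy2, hy3⟩ := hbad1 ω (fun h => hω (Subtype.ext h))
          (hall _ fun h => hω (Subtype.ext h)) x hx (congrArg Subtype.val hxω)
        exact ⟨y, hy1, Subtype.ext hy2, hy3⟩)
      (fun ω hω => Subtype.ext (hfix ω fun x => congrArg Subtype.val (hω x)))
      (fun x hx hg => by have := hgood1 x hx hg; omega)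
      (fun ω => Subtype.ext (mem_pTorsion.1 ω.2))
      (v := ⟨ω₀, mem_pTorsion.2 (hω₀ ▸ pow_orderOf_eq_one ω₀)⟩) (fun h => hω₀1 (congrArg Subtype.val h))
  -- one orbit: elementary abelian
  have hexp : ∀ ω : Λ, ω ^ p = 1 := fun ω => by
    rcases eq_or_ne ω 1 with rfl | h
    · exact one_pow p
    · obtain ⟨y, rfl⟩ := (horb ω₀ ω).1 (htrans ω h)
      rw [← smul_pow', ← hω₀, pow_orderOf_eq_one, smul_one]
  have hnt : Nontrivial Λ := ⟨ω₀, 1, hω₀1⟩
  -- the orbit
  have hOcard : (orb ω₀).card = p ^ n - 1 := by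
    rw [show orb ω₀ = univ.erase 1 by
      ext x
      simp only [Finset.mem_erase, Finset.mem_univ, and_true]
      exact ⟨fun h he => h1notmem ω₀ hω₀1 (he ▸ h), htrans x⟩,
      Finset.card_erase_of_mem (Finset.mem_univ _), Finset.card_univ, ← Nat.card_eq_fintype_card, hn]
  have hdvd : p ^ n - 1 ∣ Nat.card E := by
    have h2 := MulAction.card_orbit_mul_card_stabilizer_eq_card_group E ω₀
    simp only [← Nat.card_eq_fintype_card] at h2
    refine ⟨Nat.card (MulAction.stabilizer E ω₀), ?_⟩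
    rw [← hOcard, ← h2, ← Nat.card_eq_finsetCard (orb ω₀)]
    congr 1
    exact Nat.card_congr (Equiv.subtypeEquivRight fun x => (horb ω₀ x).symm)
  have htot : m 1 * Nat.card E + ∑ x ∈ orb ω₀, w x ≤ 3 * Nat.card E := by
    have h := hle (insert 1 (orb ω₀))
    rwa [Finset.sum_insert (h1notmem ω₀ hω₀1), hw1] at h
  obtain ⟨hO1, hO2⟩ := hlo ω₀
  have hm12 : m 1 ≤ 2 := by
    by_contra hc
    have : 3 * Nat.card E ≤ m 1 * Nat.card E := Nat.mul_le_mul_right _ (by omega)
    linarith
  have hn0 : n ≠ 0 := by rintro rfl; rw [pow_zero] at hn; omega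
  rcases eq_or_ne n 1 with rfl | hn1
  · -- prime order: everything is good
    rw [pow_one] at hn hdvd hOcard
    have hirr : Irred Λ (1 : E) := fun U _ => by
      haveI : Fact (Nat.card Λ).Prime := ⟨hn ▸ hp.out⟩
      exact U.eq_bot_or_eq_top_of_prime_card
    have hcyc := isCyclic_centralizer hfaith hirr hnt
    have htop : Subgroup.centralizer ({(1 : E)} : Set E) = ⊤ :=
      eq_top_iff.2 fun y _ => Twist.mem_cen.2 (Commute.one_left y)
    rw [htop] at hcyc
    obtain ⟨⟨c, hcm⟩, hc⟩ := hcyc.exists_generator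
    have hgen : ∀ x : E, ∃ i : ℤ, c ^ i = x := fun x => by
      obtain ⟨i, hi⟩ := Subgroup.mem_zpowers_iff.1 (hc ⟨x, Subgroup.mem_top x⟩)
      exact ⟨i, congrArg Subtype.val hi⟩
    have hcomm : ∀ a b : E, Commute a b := fun a b => by
      obtain ⟨i, rfl⟩ := hgen a
      obtain ⟨j, rfl⟩ := hgen b
      exact Commute.zpow_zpow_self c i j
    have hcen : ∀ x : E, Subgroup.centralizer ({x} : Set E) = ⊤ := fun x =>
      eq_top_iff.2 fun y _ => Twist.mem_cen.2 (hcomm x y)
    have hallgood : ∀ x, τ.Good x := fun x => τ.good_of_isCyclic (by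
      rw [hcen x]
      exact ⟨⟨c, Subgroup.mem_top c⟩, fun y => hc y⟩)
    have h := hone
    rw [Finset.filter_true_of_mem fun x _ => hallgood x, Finset.sum_congr rfl fun x _ => by
      rw [hcen x, Subgroup.card_top], Finset.sum_const, Finset.card_univ, smul_eq_mul,
      ← Nat.card_eq_fintype_card] at h
    have h1 : Nat.card E ≤ m 1 := Nat.le_of_mul_le_mul_right h hEpos
    have h2 := Nat.le_of_dvd hEpos hdvd
    have : p ≠ 4 := fun h4 => absurd hp.out (h4 ▸ by norm_num)
    omega
  have hn2 : 1 < n := by omega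
  obtain ⟨g, hirr⟩ : ∃ g : E, Irred Λ g := by
    by_cases hex : n = 2 ∧ ∃ j : ℕ, p + 1 = 2 ^ j
    · obtain ⟨rfl, j, hj⟩ := hex
      exact exists_irred_two hfaith hn hexp rfl hE hj hp2 hdvd
    · obtain ⟨r, hr⟩ := Zsigmondy.exists_isPpd hp.out.one_lt hn2 (fun h => hp2 h.1) hex
      haveI := Fact.mk hr.1
      obtain ⟨g, hg⟩ := exists_prime_orderOf_dvd_card' (G := E) r (hr.2.1.trans hdvd)
      exact ⟨g, irred_of_ppd hfaith hn hr hg⟩
  have hzp : ∀ x : E, Stab x (Subgroup.zpowers ω₀) → ∀ y : E, Irred Λ y → y = x → False := by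
    intro x hx y hy hyx
    subst hyx
    rcases hy _ hx with h | h
    · exact hω₀1 (Subgroup.zpowers_eq_bot.1 h)
    · have h1 := Nat.card_zpowers ω₀
      rw [h, Subgroup.card_top, hn, hω₀] at h1
      exact hn1 (Nat.pow_right_injective hp.out.two_le (h1.trans (pow_one p).symm))
  have hg1 : g ≠ 1 := fun h => hzp 1 (fun x hx => by rwa [one_smul]) g hirr h
  have hgood : τ.Good g := τ.good_of_isCyclic (isCyclic_centralizer hfaith hirr hnt)
  have hclass : ∀ y, IsConj g y → τ.Good y := by
    intro y hy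
    obtain ⟨c, rfl⟩ := isConj_iff.1 hy
    refine τ.good_of_isCyclic (isCyclic_centralizer hfaith (fun U hU => ?_) hnt)
    let α : Λ ≃* Λ := MulDistribMulAction.toMulEquiv Λ c
    have hst : Stab g (U.comap α.toMonoidHom) := fun x hx => by
      have h1 := hU _ hx
      show c • (g • x) ∈ U
      simpa [α, mul_smul] using h1
    rcases hirr _ hst with h | h
    · left
      refine (Subgroup.eq_bot_iff_forall _).2 fun x hx => ?_
      have h1 : c⁻¹ • x ∈ U.comap α.toMonoidHom := by
        show c • (c⁻¹ • x) ∈ U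
        rwa [smul_inv_smul]
      rw [h, Subgroup.mem_bot] at h1
      rw [← smul_inv_smul c x, h1, smul_one]
    · right
      refine eq_top_iff.2 fun x _ => ?_
      have h1 : c⁻¹ • x ∈ U.comap α.toMonoidHom := h.symm ▸ Subgroup.mem_top _
      have h2 : c • (c⁻¹ • x) ∈ U := h1
      rwa [smul_inv_smul] at h2
  have hm1two : m 1 = 2 := by have := hgood1 g hg1 hgood; omega
  have hall : ∀ x : Λ, x ≠ 1 → m x = 1 := by
    intro x hx
    by_contra hne
    have := hO2 ⟨x, htrans x hx, by have := hm x; omega⟩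
    rw [hm1two] at htot
    linarith
  have hinv := smul_eq_inv_of_two (Ω := Λ) hE hS τ
    (fun ω hω x hx hxω => hbad1 ω hω (hall ω hω) x hx hxω) hfix hexp
    (hone.trans (le_of_eq (by rw [hm1two]))) hg1 hclass
  refine hzp g (fun x hx => ?_) g hirr rfl
  have h : g • x = x⁻¹ := by
    have h2 := congrArg (fun z => g • z) (hinv x)
    simp only [smul_inv_smul, smul_inv'] at h2
    exact (inv_eq_iff_eq_inv.1 h2.symm)
  rw [h]
  exact inv_mem hx

end CfsgLib.SmallBlocks.NormalDef
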