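import Cfsg.Agent.Lib.SmallBlocks.NormalDef.OrbitCount
import Cfsg.Agent.Lib.RelMcKay.GoodCount
import Cfsg.Agent.Lib.CoprimeAction.Glauberman
import Cfsg.Agent.Lib.CharTheory.Inflation

/-!
# The pairing of an invariant character

For `G`-invariant `θ` on a normal subgroup `N` the intertwiners give a pairing on commuting
elements of `G ⧸ N`; where it is trivial the character extends to the group the two elements
generate with `N`.
-/

set_option autoImplicit false
set_option linter.style.haveILetI false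
set_option linter.unusedSectionVars false

open Cfsg CfsgLib.CharTheory CfsgLib.RealChar CfsgLib.RelMcKay
open scoped commutatorElement

namespace CfsgLib.SmallBlocks.NormalDef

universe u

variable {G : Type u} [Group G] [Finite G] (N : Subgroup G) [N.Normal] {d : ℕ}
  (ρ : Representation ℂ N (Fin d → ℂ)) [ρ.IsIrreducible]
  (hinv : ∀ (g : G) (n : N), ρ.character (MulAut.conjNormal g n) = ρ.character n)

attribute [local instance] interIncl_range_normal

/-- The intertwiners modulo the copy of `N`. -/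
abbrev Hat : Type _ :=
  interGroup N ρ ⧸ (interIncl N ρ).range

/-- The class of an intertwiner. -/
noncomputable def hmk : interGroup N ρ →* Hat N ρ :=
  QuotientGroup.mk' _

/-- The scalars. -/
noncomputable def hsc : ℂˣ →* Hat N ρ := (hmk N ρ).comp (interScalar N ρ)

theorem hmk_eq_one {x : interGroup N ρ} : hmk N ρ x = 1 ↔ x ∈ (interIncl N ρ).range :=
  QuotientGroup.eq_one_iff x

theorem hsc_injective : Function.Injective (hsc N ρ) := by
  refine (injective_iff_map_eq_one _).2 fun z hz => ?_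
  obtain ⟨n, hn⟩ := (hmk_eq_one N ρ).1 hz
  have h1 := congrArg (interFst N ρ) hn
  rw [interFst_incl, interFst_scalar] at h1
  rw [show n = 1 from Subtype.ext h1, map_one] at hn
  haveI : Nontrivial (Fin d → ℂ) :=
    Module.nontrivial_of_finrank_pos (CfsgLib.CharTheory.finrank_pos_of_isIrreducible ρ)
  have h2 : algebraMap ℂ (Module.End ℂ (Fin d → ℂ)) z = algebraMap ℂ _ 1 := by
    rw [map_one]
    exact (congrArg (fun e : interGroup N ρ =>
      ((interSnd N ρ e : (Module.End ℂ (Fin d → ℂ))ˣ) : Module.End ℂ (Fin d → ℂ))) hn).symm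
  exact Units.ext ((algebraMap ℂ (Module.End ℂ (Fin d → ℂ))).injective h2)

theorem hsc_central (z : ℂˣ) (a : Hat N ρ) : Commute (hsc N ρ z) a := by
  obtain ⟨x, rfl⟩ := QuotientGroup.mk'_surjective (interIncl N ρ).range a
  exact (interScalar_commute N ρ z x).map (hmk N ρ)

/-- The projection to `G ⧸ N`. -/
noncomputable def hfst : Hat N ρ →* G ⧸ N :=
  QuotientGroup.lift _ ((QuotientGroup.mk' N).comp (interFst N ρ)) (by
    rintro _ ⟨n, rfl⟩
    exact (QuotientGroup.eq_one_iff _).2 n.2)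

theorem hfst_hmk (x : interGroup N ρ) : hfst N ρ (hmk N ρ x) = QuotientGroup.mk (interFst N ρ x) := rfl

theorem exists_scalar_eq (a b : Hat N ρ) (h : hfst N ρ a = hfst N ρ b) :
    ∃ z : ℂˣ, a = hsc N ρ z * b := by
  obtain ⟨x, rfl⟩ := QuotientGroup.mk'_surjective (interIncl N ρ).range a
  obtain ⟨y, rfl⟩ := QuotientGroup.mk'_surjective (interIncl N ρ).range b
  have h1 : (interFst N ρ x) * (interFst N ρ y)⁻¹ ∈ N := by
    have h2 : (QuotientGroup.mk (interFst N ρ x) : G ⧸ N) = QuotientGroup.mk (interFst N ρ y) := h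
    rw [← QuotientGroup.eq_one_iff, QuotientGroup.mk_mul, QuotientGroup.mk_inv, h2, mul_inv_cancel]
  obtain ⟨z, hz⟩ := exists_scalar_of_interFst_eq x (interIncl N ρ ⟨_, h1⟩ * y) (by
    rw [map_mul, interFst_incl, inv_mul_cancel_right])
  refine ⟨z, ?_⟩
  show hmk N ρ x = hmk N ρ (interScalar N ρ z) * hmk N ρ y
  rw [hz, map_mul, map_mul, (hmk_eq_one N ρ).2 ⟨_, rfl⟩, one_mul]

/-- Commutators only see the classes modulo scalars. -/
theorem comm_scalar_left (z w : ℂˣ) (a b : Hat N ρ) :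
    ⁅hsc N ρ z * a, hsc N ρ w * b⁆ = ⁅a, b⁆ := by
  have h1 : ∀ (z : ℂˣ) (a b : Hat N ρ), ⁅hsc N ρ z * a, b⁆ = ⁅a, b⁆ := fun z a b => by
    have hc := hsc_central N ρ z
    simp only [commutatorElement_def, mul_inv_rev]
    calc hsc N ρ z * a * b * (a⁻¹ * (hsc N ρ z)⁻¹) * b⁻¹
        = hsc N ρ z * (a * b * a⁻¹) * (hsc N ρ z)⁻¹ * b⁻¹ := by simp only [mul_assoc]
      _ = a * b * a⁻¹ * b⁻¹ := by rw [(hc (a * b * a⁻¹)).eq, mul_inv_cancel_right]
  rw [h1, ← commutatorElement_inv, h1, commutatorElement_inv]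

include hinv in
theorem hfst_surjective : Function.Surjective (hfst N ρ) := fun q => by
  obtain ⟨g, rfl⟩ := QuotientGroup.mk_surjective q
  obtain ⟨x, hx⟩ := interFst_surjective hinv g
  exact ⟨hmk N ρ x, by rw [hfst_hmk, hx]⟩

/-- The pairing. -/
noncomputable def pairing : G ⧸ N → G ⧸ N → ℂˣ := fun x y =>
  open Classical in
  if h : ∃ z : ℂˣ, ⁅(hfst_surjective N ρ hinv x).choose, (hfst_surjective N ρ hinv y).choose⁆ =
      hsc N ρ z then h.choose else 1

theorem pairing_spec {x y : G ⧸ N} (hxy : Commute x y) (a b : Hat N ρ) (ha : hfst N ρ a = x)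
    (hb : hfst N ρ b = y) : ⁅a, b⁆ = hsc N ρ (pairing N ρ hinv x y) := by
  set a0 := (hfst_surjective N ρ hinv x).choose
  set b0 := (hfst_surjective N ρ hinv y).choose
  have ha0 : hfst N ρ a0 = x := (hfst_surjective N ρ hinv x).choose_spec
  have hb0 : hfst N ρ b0 = y := (hfst_surjective N ρ hinv y).choose_spec
  have hex : ∃ z : ℂˣ, ⁅a0, b0⁆ = hsc N ρ z := by
    obtain ⟨z, hz⟩ := exists_scalar_eq N ρ ⁅a0, b0⁆ 1 (by
      rw [map_commutatorElement, ha0, hb0, map_one, commutatorElement_eq_one_iff_commute.2 hxy])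
    exact ⟨z, by rw [hz, mul_one]⟩
  obtain ⟨z, rfl⟩ := exists_scalar_eq N ρ a a0 (ha.trans ha0.symm)
  obtain ⟨w, rfl⟩ := exists_scalar_eq N ρ b b0 (hb.trans hb0.symm)
  rw [comm_scalar_left, pairing, dif_pos hex]
  exact hex.choose_spec

/-- The twist. -/
noncomputable def twist : Twist (G ⧸ N) where
  β := pairing N ρ hinv
  mul_right := fun {x y z} hy hz => by
    apply hsc_injective N ρ
    obtain ⟨a, ha⟩ := hfst_surjective N ρ hinv x
    obtain ⟨b, hb⟩ := hfst_surjective N ρ hinv y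
    obtain ⟨c, hc⟩ := hfst_surjective N ρ hinv z
    rw [map_mul, ← pairing_spec N ρ hinv hy a b ha hb, ← pairing_spec N ρ hinv hz a c ha hc,
      ← pairing_spec N ρ hinv (hy.mul_right hz) a (b * c) ha (by rw [map_mul, hb, hc])]
    have h1 : Commute b ⁅a, c⁆ := by
      rw [pairing_spec N ρ hinv hz a c ha hc]
      exact (hsc_central N ρ _ b).symm
    simp only [commutatorElement_def] at h1 ⊢
    calc a * (b * c) * a⁻¹ * (b * c)⁻¹ = a * b * a⁻¹ * ((a * c * a⁻¹ * c⁻¹) * b⁻¹) := by group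
      _ = a * b * a⁻¹ * (b⁻¹ * (a * c * a⁻¹ * c⁻¹)) := by rw [h1.inv_left.eq]
      _ = a * b * a⁻¹ * b⁻¹ * (a * c * a⁻¹ * c⁻¹) := (mul_assoc _ _ _).symm
  symm := fun {x y} h => by
    apply hsc_injective N ρ
    obtain ⟨a, ha⟩ := hfst_surjective N ρ hinv x
    obtain ⟨b, hb⟩ := hfst_surjective N ρ hinv y
    rw [map_inv, ← pairing_spec N ρ hinv h.symm b a hb ha, ← pairing_spec N ρ hinv h a b ha hb,
      commutatorElement_inv]
  self := fun x => by
    apply hsc_injective N ρ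
    obtain ⟨a, ha⟩ := hfst_surjective N ρ hinv x
    rw [map_one, ← pairing_spec N ρ hinv (Commute.refl x) a a ha ha, commutatorElement_self]

/-- Where the pairing is trivial the second element fixes an extension to the first. -/
theorem exists_fixed_of_pairing {θ : G → ℂ} (hθ : ∀ n : N, θ n = ρ.character n)
    {r y : G}
    (hc : Commute (r : G ⧸ N) (y : G ⧸ N)) (h1 : pairing N ρ hinv (r : G ⧸ N) (y : G ⧸ N) = 1) :
    ∃ f, IsIrrOn (N ⊔ Subgroup.zpowers r) f ∧ (∀ x ∈ N, f x = θ x) ∧ y ∈ stab f ∧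
      y ∈ Subgroup.normalizer ((N ⊔ Subgroup.zpowers r : Subgroup G) : Set G) := by
  classical
  set V := N ⊔ Subgroup.zpowers r with hV
  have hrV : r ∈ V := le_sup_right (a := N) (Subgroup.mem_zpowers r)
  have hNV : N ≤ V := le_sup_left
  haveI : (N.subgroupOf V).Normal := inferInstance
  let e : N.subgroupOf V ≃* N := Subgroup.subgroupOfEquivOfLe hNV
  let ρ' : Representation ℂ (N.subgroupOf V) (Fin d → ℂ) := ρ.comp e.toMonoidHom
  haveI : ρ'.IsIrreducible := CfsgLib.CharTheory.isIrreducible_comp ρ e.surjective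
  have hcyc : IsCyclic (V ⧸ N.subgroupOf V) := by
    refine ⟨QuotientGroup.mk ⟨r, hrV⟩, fun q => ?_⟩
    obtain ⟨⟨v, hv⟩, rfl⟩ := QuotientGroup.mk_surjective q
    obtain ⟨n, hn, z, hz, rfl⟩ := Subgroup.mem_sup_of_normal_left.1 hv
    obtain ⟨i, rfl⟩ := Subgroup.mem_zpowers_iff.1 hz
    refine Subgroup.mem_zpowers_iff.2 ⟨i, ?_⟩
    rw [← QuotientGroup.mk_zpow, QuotientGroup.eq, Subgroup.mem_subgroupOf]
    simp only [Subgroup.coe_mul, Subgroup.coe_inv, Subgroup.coe_zpow]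
    have := N.mul_mem hn (one_mem N)
    simpa [mul_assoc] using (Subgroup.Normal.conj_mem (inferInstance : N.Normal) n hn (r ^ i)⁻¹)
  obtain ⟨σ, hσ⟩ := exists_extension_of_cyclic (G := V) (N := N.subgroupOf V) (ρ := ρ')
    (fun g n => hinv (g : G) (e n)) hcyc
  have hσn : ∀ (n : G) (hn : n ∈ N), σ ⟨n, hNV hn⟩ = ρ ⟨n, hn⟩ := fun n hn => hσ ⟨⟨n, hNV hn⟩, hn⟩
  have hX : ((r, σ.toHomUnits ⟨r, hrV⟩) : G × (Module.End ℂ (Fin d → ℂ))ˣ) ∈ interGroup N ρ := by
    intro n
    show σ ⟨r, hrV⟩ * ρ n = ρ (MulAut.conjNormal r n) * σ ⟨r, hrV⟩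
    rw [← hσn n n.2, ← hσn _ (MulAut.conjNormal r n).2, ← map_mul, ← map_mul]
    congr 1
    exact Subtype.ext (by simp [MulAut.conjNormal_apply])
  set X : interGroup N ρ := ⟨_, hX⟩ with hXdef
  obtain ⟨Y, hY⟩ := interFst_surjective hinv y
  have h2 := pairing_spec N ρ hinv hc (hmk N ρ X) (hmk N ρ Y) rfl (by rw [hfst_hmk, hY])
  rw [h1, map_one, ← map_commutatorElement, hmk_eq_one] at h2
  obtain ⟨n₀, hn₀⟩ := h2
  have hYX : Y * X * Y⁻¹ = (interIncl N ρ n₀)⁻¹ * X := by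
    rw [hn₀, commutatorElement_inv, commutatorElement_def]
    group
  set T := interSnd N ρ Y with hT
  have hnorm : y ∈ Subgroup.normalizer (V : Set G) := by
    have hr' : y * r * y⁻¹ ∈ V := by
      have h3 := congrArg (interFst N ρ) hYX
      rw [map_mul, map_mul, map_mul, map_inv, map_inv, interFst_incl, hY] at h3
      rw [show y * r * y⁻¹ = (n₀ : G)⁻¹ * r from h3]
      exact V.mul_mem (inv_mem (hNV n₀.2)) hrV
    have h4 : V ≤ V.comap (MulAut.conj y).toMonoidHom := by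
      refine sup_le (fun n hn => ?_) (Subgroup.zpowers_le.2 ?_)
      · show y * n * y⁻¹ ∈ V
        exact hNV ((inferInstance : N.Normal).conj_mem n hn y)
      · exact hr'
    exact CoprimeAction.mem_normalizer_of_conj_mem fun v hv => h4 hv
  -- the two representations agree on generators
  let V0 : Subgroup G :=
    { carrier := {v | ∃ hv : v ∈ V, ∃ hw : y * v * y⁻¹ ∈ V,
        (T : Module.End ℂ (Fin d → ℂ)) * σ ⟨v, hv⟩ = σ ⟨y * v * y⁻¹, hw⟩ * T}
      one_mem' := ⟨V.one_mem, by simp, by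
        rw [show (⟨1, V.one_mem⟩ : V) = 1 from rfl,
          show (⟨y * 1 * y⁻¹, by simp⟩ : V) = 1 from Subtype.ext (by simp), map_one, mul_one, one_mul]⟩
      mul_mem' := by
        rintro a b ⟨ha, ha', ea⟩ ⟨hb, hb', eb⟩
        have hw : y * (a * b) * y⁻¹ ∈ V := by
          simpa [mul_assoc] using V.mul_mem ha' hb'
        refine ⟨V.mul_mem ha hb, hw, ?_⟩
        rw [show (⟨a * b, V.mul_mem ha hb⟩ : V) = ⟨a, ha⟩ * ⟨b, hb⟩ from rfl, map_mul, ← mul_assoc, ea,
          mul_assoc, eb, ← mul_assoc, ← map_mul]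
        congr 2
        exact Subtype.ext (by simp [mul_assoc])
      inv_mem' := by
        rintro a ⟨ha, ha', ea⟩
        have hw : y * a⁻¹ * y⁻¹ ∈ V := by
          simpa [mul_assoc] using V.inv_mem ha'
        refine ⟨V.inv_mem ha, hw, ?_⟩
        calc (T : Module.End ℂ (Fin d → ℂ)) * σ ⟨a⁻¹, V.inv_mem ha⟩
            = σ ⟨y * a⁻¹ * y⁻¹, hw⟩ * (σ ⟨y * a * y⁻¹, ha'⟩ * T) * σ ⟨a⁻¹, V.inv_mem ha⟩ := by
              rw [← mul_assoc (σ ⟨y * a⁻¹ * y⁻¹, hw⟩), ← map_mul,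
                show (⟨y * a⁻¹ * y⁻¹, hw⟩ : V) * ⟨y * a * y⁻¹, ha'⟩ = 1 from Subtype.ext (by simp [mul_assoc]),
                map_one, one_mul]
          _ = σ ⟨y * a⁻¹ * y⁻¹, hw⟩ * T := by
              have hab : σ ⟨a, ha⟩ * σ ⟨a⁻¹, V.inv_mem ha⟩ = 1 := by
                rw [← map_mul, show (⟨a, ha⟩ : V) * ⟨a⁻¹, V.inv_mem ha⟩ = 1 from
                  Subtype.ext (mul_inv_cancel a), map_one]
              rw [← ea, mul_assoc (σ ⟨y * a⁻¹ * y⁻¹, hw⟩),
                mul_assoc (T : Module.End ℂ (Fin d → ℂ)), hab, mul_one] }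
  have hVV0 : V ≤ V0 := by
    refine sup_le (fun n hn => ?_) (Subgroup.zpowers_le.2 ?_)
    · have hn' := (inferInstance : N.Normal).conj_mem n hn y
      refine ⟨hNV hn, hNV hn', ?_⟩
      rw [hσn n hn, hσn _ hn']
      have h4 := Y.2 ⟨n, hn⟩
      have h6 : MulAut.conjNormal (Y : G × (Module.End ℂ (Fin d → ℂ))ˣ).1 (⟨n, hn⟩ : N) =
          ⟨y * n * y⁻¹, hn'⟩ := by
        refine Subtype.ext ?_
        rw [show (Y : G × (Module.End ℂ (Fin d → ℂ))ˣ).1 = y from hY]
        exact MulAut.conjNormal_apply _ _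
      rw [h6] at h4
      exact h4
    · have hw := (Subgroup.mem_normalizer_iff.1 hnorm r).1 hrV
      refine ⟨hrV, hw, ?_⟩
      have h3 := congrArg (interFst N ρ) hYX
      rw [map_mul, map_mul, map_mul, map_inv, map_inv, interFst_incl, hY] at h3
      have h5 := congrArg (fun e : interGroup N ρ =>
        ((interSnd N ρ e : (Module.End ℂ (Fin d → ℂ))ˣ) : Module.End ℂ (Fin d → ℂ)))
        (mul_inv_eq_iff_eq_mul.1 hYX)
      simp only [map_mul, map_inv, Units.val_mul] at h5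
      rw [show (⟨y * r * y⁻¹, hw⟩ : V) = ⟨((n₀⁻¹ : N) : G), hNV (n₀⁻¹ : N).2⟩ * ⟨r, hrV⟩ from
        Subtype.ext (by simp only [Subgroup.coe_mul, Subgroup.coe_inv]; exact h3), map_mul,
        hσn _ (n₀⁻¹ : N).2]
      exact h5.trans (by rw [← map_inv, ← map_inv]; rfl)
  have hchar : ∀ (v : G) (hv : v ∈ V) (hw : y * v * y⁻¹ ∈ V),
      σ.character ⟨y * v * y⁻¹, hw⟩ = σ.character ⟨v, hv⟩ := by
    intro v hv hw
    obtain ⟨_, _, he⟩ := hVV0 hv
    show LinearMap.trace ℂ _ (σ ⟨y * v * y⁻¹, hw⟩) = LinearMap.trace ℂ _ (σ ⟨v, hv⟩)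
    rw [show σ ⟨y * v * y⁻¹, hw⟩ = (T : Module.End ℂ (Fin d → ℂ)) * σ ⟨v, hv⟩ * (↑T⁻¹) by
      rw [he, Units.mul_inv_cancel_right], LinearMap.trace_mul_comm, ← mul_assoc, Units.inv_mul,
      one_mul]
  obtain ⟨hirr, hres⟩ := isIrrCharacter_of_extension ρ' σ hσ
  let F : G → ℂ := fun g => if hg : g ∈ V then σ.character ⟨g, hg⟩ else 0
  refine ⟨F, ⟨?_, fun g hg => dif_neg hg⟩, fun x hx => ?_, ?_, hnorm⟩
  · rw [show (fun h : V => F h) = σ.character from funext fun h => dif_pos h.2]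
    exact hirr
  · show (if hg : x ∈ V then σ.character ⟨x, hg⟩ else 0) = θ x
    rw [dif_pos (hNV hx), show θ x = θ ((⟨x, hx⟩ : N) : G) from rfl, hθ]
    exact hres ⟨⟨x, hNV hx⟩, hx⟩
  · refine mem_stab.2 (funext fun v => ?_)
    show (if hg : y * v * y⁻¹ ∈ V then σ.character ⟨_, hg⟩ else 0) =
      if hg : v ∈ V then σ.character ⟨v, hg⟩ else 0
    by_cases hv : v ∈ V
    · rw [dif_pos hv, dif_pos ((Subgroup.mem_normalizer_iff.1 hnorm v).1 hv)]
      exact hchar v hv _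
    · rw [dif_neg hv, dif_neg fun h => hv ((Subgroup.mem_normalizer_iff.1 hnorm v).2 h)]

end CfsgLib.SmallBlocks.NormalDef
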