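import Cfsg.Agent.Lib.SmallBlocks.NormalDef.Pairing
import Cfsg.Agent.Lib.IBr.Generalized

/-!
# Extendibility passes to characters congruent on the `p`-regular elements
-/

set_option autoImplicit false
set_option linter.style.haveILetI false
set_option linter.unusedSectionVars false

open Cfsg CfsgLib.CharTheory CfsgLib.RelMcKay CfsgLib.IBr
open scoped ComplexConjugate

namespace CfsgLib.SmallBlocks.NormalDef

universe u

variable {G : Type u} [Group G] [Finite G] {p : ℕ} [hp : Fact p.Prime] {M : Ideal AlgInt}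
  {S : PSys p M}

/-- The regular part of a character is a generalized character. -/
theorem isGeneralizedCharacter_reg [Fintype G] (hS : S.Fits G) {χ : G → ℂ} (hχ : IsCharacter G χ) :
    IsGeneralizedCharacter G (fun g => χ (S.reg g)) := by
  obtain ⟨d, ρ, rfl⟩ := hχ
  obtain ⟨b, A, hA⟩ := PSys.exists_matrices (S := S) ρ
  have h := hS.isGeneralizedCharacter_brau (PSys.red A)
  convert h using 1
  funext g
  rw [hS.brau_red, hA, PSys.trace_toMatrixAlgEquiv]
  rfl

omit hp in
/-- An invariance under shifting divides the total. -/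
theorem natCast_dvd_sum {A : Type*} [CommGroup A] [Fintype A] (a : A → ℤ) {m : A}
    (h : ∀ l, a (m * l) = a l) : ((orderOf m : ℕ) : ℤ) ∣ ∑ l, a l := by
  classical
  set Z := Subgroup.zpowers m
  have hZ : ∀ z ∈ Z, ∀ l, a (z * l) = a l := by
    intro z hz
    obtain ⟨i, rfl⟩ := (mem_powers_iff_mem_zpowers (G := A)).2 hz
    induction i with
    | zero => simp
    | succ i ih =>
      intro l
      show a (m ^ (i + 1) * l) = a l
      rw [pow_succ', mul_assoc, h]
      exact ih ⟨i, by simp⟩ l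
  let e := (Subgroup.groupEquivQuotientProdSubgroup (s := Z))
  haveI : Fintype (A ⧸ Z) := Fintype.ofFinite _
  haveI : Fintype Z := Fintype.ofFinite _
  rw [← Fintype.sum_equiv e.symm (fun q => a (e.symm q)) a fun q => rfl, Fintype.sum_prod_type]
  refine Finset.dvd_sum fun q _ => ?_
  have hc : ∀ z : Z, a (e.symm (q, z)) = a (e.symm (q, 1)) := by
    intro z
    have h1 : ((e.symm (q, 1) : A))⁻¹ * e.symm (q, z) ∈ Z := by
      refine (QuotientGroup.eq (s := Z)).1 ?_
      have e1 : ∀ w : Z, (QuotientGroup.mk (e.symm (q, w)) : A ⧸ Z) = q := fun w => by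
        have := (e.apply_symm_apply (q, w))
        exact congrArg Prod.fst this
      rw [e1, e1]
    rw [show e.symm (q, z) = ((e.symm (q, 1))⁻¹ * e.symm (q, z)) * e.symm (q, 1) by
      rw [mul_comm, mul_inv_cancel_left], hZ _ h1]
  rw [Finset.sum_congr rfl fun z _ => hc z, Finset.sum_const, Finset.card_univ,
    ← Nat.card_eq_fintype_card, Nat.card_zpowers, nsmul_eq_mul]
  exact dvd_mul_right _ _

variable {N : Subgroup G} [N.Normal] (hS : S.Fits G) (hidx : ¬ p ∣ N.index)

include hS hidx in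
/-- An element fixing an extension of `θ` fixes every extension of a congruent character. -/
theorem extTo_of_fixed {θ θ' : G → ℂ} (hθ : IsIrrOn N θ) (hθ' : IsIrrOn N θ')
    (hreg : ∀ x ∈ N, θ' (S.reg x) = θ (S.reg x))
    (hdef : ∀ x ∈ N, θ x = 0 ∨ θ x = θ (S.reg x))
    {r y : G} (hr' : r ∈ stab θ') (hy' : y ∈ stab θ')
    {f : G → ℂ} (hf : IsIrrOn (N ⊔ Subgroup.zpowers r) f) (hfθ : ∀ x ∈ N, f x = θ x)
    (hyf : y ∈ stab f) (hcomm : Commute (r : G ⧸ N) (y : G ⧸ N))
    (hyV : y ∈ Subgroup.normalizer ((N ⊔ Subgroup.zpowers r : Subgroup G) : Set G)) :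
    ExtTo N (N ⊔ Subgroup.zpowers r ⊔ Subgroup.zpowers y) θ' := by
  classical
  set V := N ⊔ Subgroup.zpowers r with hV
  have hrV : r ∈ V := le_sup_right (a := N) (Subgroup.mem_zpowers r)
  have hNV : N ≤ V := le_sup_left
  have hzr : Subgroup.zpowers r ≤ Subgroup.normalizer (N : Set G) :=
    fun x _ => by rw [Subgroup.normalizer_eq_top]; exact Subgroup.mem_top x
  haveI := Subgroup.isCyclic_zpowers r
  obtain ⟨g, hg, hgθ⟩ := exists_ext_cyclic hzr hθ' (Subgroup.zpowers_le.2 hr')
  haveI := Fintype.ofFinite V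
  haveI : Fintype N := Fintype.ofFinite N
  haveI hNn : (N.subgroupOf V).Normal := inferInstance
  -- conjugation by `y` is a twist
  obtain ⟨l0, hl0, hl0e⟩ : ∃ l : V →* ℂˣ, (∀ x : V, (x : G) ∈ N → l x = 1) ∧
      ∀ x : V, cj y g x = (l x : ℂ) * g x := by
    let e : N.subgroupOf V ≃* N := Subgroup.subgroupOfEquivOfLe hNV
    have hcj : IsIrrOn V (cj y g) := hg.cj hyV
    obtain ⟨l, hl1, hl⟩ := Clifford.exists_linFun_of_extensions (N := N.subgroupOf V)
      (θ := fun n => θ' (e n)) (isIrrCharacter_comp_mulEquiv hθ'.1 e) hg.1 (fun n => hgθ _ n.2)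
      hcj.1 (fun n => by
        show g (y * ((n : V) : G) * y⁻¹) = θ' ((n : V) : G)
        rw [hgθ _ ((inferInstance : N.Normal).conj_mem ((n : V) : G) n.2 y)]
        exact congrFun (mem_stab.1 hy') _)
    exact ⟨l, fun x hx => hl1 ⟨x, hx⟩, fun x => by rw [congrFun hl x]; rfl⟩
  suffices hl : l0 = 1 by
    have hfix : y ∈ stab g := mem_stab.2 ((hg.cj hyV).ext hg fun x hx => by
      rw [hl0e ⟨x, hx⟩, hl, MonoidHom.one_apply, Units.val_one, one_mul])
    haveI := Subgroup.isCyclic_zpowers y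
    obtain ⟨h, hh, hhg⟩ := exists_ext_cyclic (Subgroup.zpowers_le.2 hyV) hg (Subgroup.zpowers_le.2 hfix)
    exact ⟨h, hh, fun x hx => by rw [hhg x (hNV hx), hgθ x hx]⟩
  -- the multiplicities
  let Lg : Subgroup (V →* ℂˣ) :=
    { carrier := {l | ∀ x : V, (x : G) ∈ N → l x = 1}
      one_mem' := fun _ _ => rfl
      mul_mem' := fun {a b} ha hb x hx => by rw [MonoidHom.mul_apply, ha x hx, hb x hx, one_mul]
      inv_mem' := fun {a} ha x hx => by rw [MonoidHom.inv_apply, ha x hx, inv_one] }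
  haveI : Finite (V →* ℂˣ) := inferInstance
  haveI : Fintype Lg := Fintype.ofFinite Lg
  have hSV : S.Fits V := hS.subgroup V
  set F : V → ℂ := fun x => g ((S.reg x : V) : G) with hF
  have hFgen : IsGeneralizedCharacter V F :=
    isGeneralizedCharacter_reg hSV hg.isCharOn
  have hirr : ∀ l : V →* ℂˣ, IsIrrCharacter V (fun x => (l x : ℂ) * f (x : G)) := fun l => by
    exact Clifford.isIrrCharacter_linFun_mul l hf.1
  choose a ha using fun l : Lg => exists_classInner_eq_int hFgen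
    (Brauer.isGeneralizedCharacter_of_isCharacter (IsIrrCharacter.isCharacter (hirr l)))
  -- the regular part sees the twist unchanged
  have hlreg : ∀ (l : Lg) (x : V), (l : V →* ℂˣ) (S.reg x) = (l : V →* ℂˣ) x := by
    intro l x
    have h1 : (l : V →* ℂˣ) x ^ N.index = 1 := by
      rw [← map_pow]
      exact l.2 _ (by rw [SubmonoidClass.coe_pow]; exact Subgroup.pow_index_mem (H := N) (x : G))
    have h3 : (Nat.gcd N.index S.q) = 1 := by
      obtain ⟨c, hc⟩ := S.hq
      rw [hc]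
      exact (Nat.Coprime.pow_right c ((hp.out.coprime_iff_not_dvd.2 hidx).symm))
    have h4 : N.index ∣ S.m := Nat.Coprime.dvd_of_dvd_mul_right h3 ((N.index_dvd_card).trans hS)
    have h5 : (l : V →* ℂˣ) x ^ S.m = 1 := by
      obtain ⟨c, hc⟩ := h4
      rw [hc, pow_mul, h1, one_pow]
    rw [PSys.reg, map_pow, S.he.pow_eq_self h5]
  have hshift : ∀ l : Lg, a (⟨l0, hl0⟩ * l) = a l := by
    intro l
    apply Int.cast_injective (α := ℂ)
    rw [← ha, ← ha, classInner, classInner]
    congr 1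
    -- substitute the conjugation by `y`
    let c : V ≃* V := normConj V y hyV
    have hc : ∀ x : V, ((c x : V) : G) = y * x * y⁻¹ := fun x => rfl
    refine (Fintype.sum_equiv c.toEquiv _ _ fun x => ?_).symm
    show F x * conj ((l : V →* ℂˣ) x * f (x : G)) =
      F (c x) * conj (((⟨l0, hl0⟩ * l : Lg) : V →* ℂˣ) (c x) * f ((c x : V) : G))
    have hlc : ∀ l : Lg, (l : V →* ℂˣ) (c x) = (l : V →* ℂˣ) x := by
      intro l
      have h1 : (c x : V) * x⁻¹ ∈ N.subgroupOf V := by
        rw [Subgroup.mem_subgroupOf]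
        show y * (x : G) * y⁻¹ * (x : G)⁻¹ ∈ N
        obtain ⟨v, hv⟩ := x
        obtain ⟨n, hn, z, hz, rfl⟩ := Subgroup.mem_sup_of_normal_left.1 hv
        rw [← QuotientGroup.eq_one_iff]
        simp only [QuotientGroup.mk_mul, QuotientGroup.mk_inv, (QuotientGroup.eq_one_iff n).2 hn,
          one_mul]
        obtain ⟨i, rfl⟩ := Subgroup.mem_zpowers_iff.1 hz
        rw [QuotientGroup.mk_zpow, (hcomm.zpow_left i).symm.eq, mul_inv_cancel_right, mul_inv_cancel]
      have h2 := l.2 _ (Subgroup.mem_subgroupOf.1 h1)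
      rwa [map_mul, map_inv, mul_inv_eq_one] at h2
    have hFc : F (c x) = (l0 x : ℂ) * F x := by
      have h1 : S.reg (c x) = c (S.reg x) := by simp only [PSys.reg, map_pow]
      have h2 : ((S.reg (c x) : V) : G) = y * (S.reg x : V) * y⁻¹ := by rw [h1]; rfl
      show g ((S.reg (c x) : V) : G) = _
      rw [h2, ← cj_apply y g, hl0e, hlreg ⟨l0, hl0⟩ x]
    have hfc : f ((c x : V) : G) = f (x : G) := congrFun (mem_stab.1 hyf) (x : G)
    rw [hFc, hfc, hlc, Subgroup.coe_mul, MonoidHom.mul_apply, Units.val_mul, map_mul, map_mul,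
      map_mul]
    have hnorm : (l0 x : ℂ) * conj (l0 x : ℂ) = 1 := by
      rw [Complex.mul_conj', Complex.norm_eq_one_of_pow_eq_one (n := Nat.card V) (by
        rw [← Units.val_pow_eq_pow_val, ← map_pow, pow_card_eq_one', map_one, Units.val_one])
        Nat.card_pos.ne']
      norm_num
    linear_combination -(F x * conj (((l : V →* ℂˣ) x : ℂˣ) : ℂ) * conj (f (x : G))) * hnorm
  have hN0 : (Nat.card N : ℂ) ≠ 0 := Nat.cast_ne_zero.2 Nat.card_pos.ne'
  haveI hcyc : IsCyclic (V ⧸ N.subgroupOf V) := by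
    refine ⟨QuotientGroup.mk ⟨r, hrV⟩, fun q => ?_⟩
    obtain ⟨⟨v, hv⟩, rfl⟩ := QuotientGroup.mk_surjective q
    obtain ⟨n, hn, z, hz, rfl⟩ := Subgroup.mem_sup_of_normal_left.1 hv
    obtain ⟨i, rfl⟩ := Subgroup.mem_zpowers_iff.1 hz
    refine Subgroup.mem_zpowers_iff.2 ⟨i, ?_⟩
    rw [← QuotientGroup.mk_zpow, QuotientGroup.eq, Subgroup.mem_subgroupOf]
    simp only [Subgroup.coe_mul, Subgroup.coe_inv, Subgroup.coe_zpow]
    simpa [mul_assoc] using (Subgroup.Normal.conj_mem (inferInstance : N.Normal) n hn (r ^ i)⁻¹)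
  letI : CommGroup (V ⧸ N.subgroupOf V) := IsCyclic.commGroup
  have hab : ∀ x ∈ V, ∀ z ∈ V, x * z * x⁻¹ * z⁻¹ ∈ N := fun x hx z hz => by
    have h1 : (QuotientGroup.mk (⟨x, hx⟩ * ⟨z, hz⟩ * ⟨x, hx⟩⁻¹ * ⟨z, hz⟩⁻¹ : V) :
        V ⧸ N.subgroupOf V) = 1 := by
      simp only [QuotientGroup.mk_mul, QuotientGroup.mk_inv]
      rw [mul_comm (QuotientGroup.mk ⟨x, hx⟩ : V ⧸ N.subgroupOf V), mul_inv_cancel_right, mul_inv_cancel]
    exact Subgroup.mem_subgroupOf.1 ((QuotientGroup.eq_one_iff _).1 h1)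
  have hsum : ∑ l : Lg, (a l : ℂ) = 1 := by
    simp only [← ha, classInner, map_mul, ← Finset.mul_sum]
    rw [Finset.sum_comm]
    simp only [← Finset.mul_sum, ← Finset.sum_mul]
    have hlsum : ∀ x : V, ∑ l : Lg, conj (((l : V →* ℂˣ) x : ℂˣ) : ℂ) =
        if (x : G) ∈ N then (N.relIndex V : ℂ) else 0 := by
      intro x
      split_ifs with hx
      · rw [Finset.sum_congr rfl fun l _ => by rw [l.2 x hx, Units.val_one, map_one],
          Finset.sum_const, Finset.card_univ, nsmul_one, ← Nat.card_eq_fintype_card,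
          ← card_lin (A := N) (H := V) (fun z _ => by rw [Subgroup.normalizer_eq_top]; exact Subgroup.mem_top z)
            hNV hab]
        rfl
      · obtain ⟨φ, hφ⟩ := CommGroup.exists_apply_ne_one_of_hasEnoughRootsOfUnity
          (V ⧸ N.subgroupOf V) ℂ (a := QuotientGroup.mk x) fun h => hx ((QuotientGroup.eq_one_iff x).1 h)
        let m : Lg := ⟨φ.comp (QuotientGroup.mk' _), fun z hz => by
          rw [MonoidHom.comp_apply, QuotientGroup.mk'_apply,
            (QuotientGroup.eq_one_iff z).2 (Subgroup.mem_subgroupOf.2 hz), map_one]⟩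
        have h1 : conj (((m : V →* ℂˣ) x : ℂˣ) : ℂ) * ∑ l : Lg, conj (((l : V →* ℂˣ) x : ℂˣ) : ℂ) =
            ∑ l : Lg, conj (((l : V →* ℂˣ) x : ℂˣ) : ℂ) := by
          rw [Finset.mul_sum]
          exact Fintype.sum_equiv (Equiv.mulLeft m) _ _ fun l => by
            rw [Equiv.coe_mulLeft, Subgroup.coe_mul, MonoidHom.mul_apply, Units.val_mul, map_mul]
        have h2 : conj (((m : V →* ℂˣ) x : ℂˣ) : ℂ) ≠ 1 := fun h => hφ (Units.ext (by
          have := congrArg conj h
          rwa [Complex.conj_conj, map_one] at this))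
        by_contra hne
        exact h2 ((mul_eq_right₀ hne).1 h1)
    have hFf : ∀ x : V, (x : G) ∈ N →
        F x * conj (f (x : G)) = θ (x : G) * conj (θ (x : G)) := by
      intro x hx
      have e1 : ((S.reg x : V) : G) = S.reg (x : G) := by simp [PSys.reg]
      have hx2 : S.reg (x : G) ∈ N := N.pow_mem hx _
      show g ((S.reg x : V) : G) * conj (f (x : G)) = _
      rw [e1, hgθ _ hx2, hreg _ hx, hfθ _ hx]
      rcases hdef _ hx with h | h
      · rw [h]; simp
      · rw [← h]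
    have hterm : ∀ x : V, F x * conj (f (x : G)) * (∑ l : Lg, conj (((l : V →* ℂˣ) x : ℂˣ) : ℂ)) =
        if (x : G) ∈ N then (N.relIndex V : ℂ) * (θ (x : G) * conj (θ (x : G))) else 0 := by
      intro x
      rw [hlsum]
      split_ifs with hx
      · rw [hFf x hx, mul_comm]
      · rw [mul_zero]
    rw [Finset.sum_congr rfl fun x _ => (?_ : _ = F x * conj (f (x : G)) *
      (∑ l : Lg, conj (((l : V →* ℂˣ) x : ℂˣ) : ℂ))), Finset.sum_congr rfl fun x _ => hterm x,
      ← Finset.sum_filter, ← Finset.mul_sum]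
    · have hmap : ∑ x ∈ Finset.univ.filter (fun x : V => (x : G) ∈ N), θ (x : G) * conj (θ (x : G)) =
          ∑ n : N, θ (n : G) * conj (θ (n : G)) := by
        refine Finset.sum_bij (fun x hx => (⟨(x : G), (Finset.mem_filter.1 hx).2⟩ : N))
          (fun x _ => Finset.mem_univ _) (fun x _ z _ e => Subtype.ext (congrArg Subtype.val e :))
          (fun n _ => ⟨⟨(n : G), hNV n.2⟩, Finset.mem_filter.2 ⟨Finset.mem_univ _, n.2⟩, rfl⟩)
          fun x _ => rfl
      have h1 := ip_self hθ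
      rw [ip_eq, classInner] at h1
      rw [inv_mul_eq_one₀ hN0] at h1
      have hV0 : (Nat.card V : ℂ) ≠ 0 := Nat.cast_ne_zero.2 Nat.card_pos.ne'
      rw [hmap, ← h1, inv_mul_eq_one₀ hV0]
      have h2 := Subgroup.card_mul_index (N.subgroupOf V)
      rw [Nat.card_congr (Subgroup.subgroupOfEquivOfLe hNV).toEquiv] at h2
      rw [mul_comm, ← Nat.cast_mul]
      exact_mod_cast h2.symm
    · ring
  have hdvd := natCast_dvd_sum a hshift
  have hone : ∑ l : Lg, a l = 1 := by exact_mod_cast hsum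
  rw [hone] at hdvd
  have h1 : orderOf (⟨l0, hl0⟩ : Lg) = 1 :=
    Nat.eq_one_of_dvd_one (by exact_mod_cast hdvd)
  exact congrArg Subtype.val (orderOf_eq_one_iff.1 h1)

end CfsgLib.SmallBlocks.NormalDef
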