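import Cfsg.Agent.Lib.SmallBlocks.NormalDef.LiftLin

/-!
# A twisted group of linear maps with few good elements

`τ` is the commutator pairing of a central extension of the `p'`-group `E` acting faithfully on
the elementary abelian `p`-group `Ω`. If every non-trivial point has only the trivial good element
in its stabilizer, the sum of the Brauer character of the dual space, weighted by the centralizer
orders, vanishes on the good elements.
-/

set_option autoImplicit false
set_option linter.style.haveILetI false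
set_option linter.unusedSectionVars false

open Cfsg Finset Module CfsgLib.IBr

namespace CfsgLib.SmallBlocks.NormalDef

universe u v

/-- The commutator pairing of a central extension. -/
structure Twist (E : Type u) [Group E] where
  /-- The pairing of commuting elements. -/
  β : E → E → ℂˣ
  mul_right : ∀ {x y z : E}, Commute x y → Commute x z → β x (y * z) = β x y * β x z
  symm : ∀ {x y : E}, Commute x y → β y x = (β x y)⁻¹
  self : ∀ x : E, β x x = 1

namespace Twist

variable {E : Type u} [Group E] (τ : Twist E)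

/-- A good element. -/
def Good (x : E) : Prop := ∀ y, Commute x y → τ.β x y = 1

theorem mem_cen {x y : E} : y ∈ Subgroup.centralizer ({x} : Set E) ↔ Commute x y := by
  rw [Subgroup.mem_centralizer_iff]
  exact ⟨fun h => h x rfl, fun h z hz => by rw [Set.mem_singleton_iff.1 hz]; exact h⟩

/-- The pairing with a fixed element, on its centralizer. -/
def cenHom (x : E) : Subgroup.centralizer ({x} : Set E) →* ℂˣ :=
  MonoidHom.mk' (fun y => τ.β x y) fun a b => τ.mul_right (mem_cen.1 a.2) (mem_cen.1 b.2)

theorem cenHom_apply (x : E) (y : Subgroup.centralizer ({x} : Set E)) :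
    τ.cenHom x y = τ.β x y := rfl

theorem good_one : τ.Good 1 := fun y _ => by
  have h := τ.symm (Commute.one_right y)
  have h1 : τ.β y 1 = 1 := by
    have := map_one (τ.cenHom y)
    simpa [cenHom_apply] using this
  rw [h, h1, inv_one]

theorem good_iff {x : E} : τ.Good x ↔ τ.cenHom x = 1 :=
  ⟨fun h => MonoidHom.ext fun y => h y (mem_cen.1 y.2),
    fun h y hy => DFunLike.congr_fun h ⟨y, mem_cen.2 hy⟩⟩

theorem good_conj_symm {x : E} (hx : τ.Good x) {y : E} (h : Commute y x) : τ.β y x = 1 := by
  rw [τ.symm h.symm, hx y h.symm, inv_one]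

/-- An element with cyclic centralizer is good. -/
theorem good_of_isCyclic {x : E} (h : IsCyclic (Subgroup.centralizer ({x} : Set E))) :
    τ.Good x := by
  obtain ⟨c, hc⟩ := h.exists_generator
  intro y hy
  obtain ⟨i, hi⟩ := Subgroup.mem_zpowers_iff.1 (hc ⟨x, mem_cen.2 (Commute.refl x)⟩)
  obtain ⟨j, hj⟩ := Subgroup.mem_zpowers_iff.1 (hc ⟨y, mem_cen.2 hy⟩)
  have hi' : (c : E) ^ i = x := congrArg Subtype.val hi
  have hxc : Commute x (c : E) := mem_cen.1 c.2
  have h0 : τ.cenHom x c = 1 := by
    have h1 : Commute (c : E) x := hxc.symm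
    have h2 := congrArg (fun z : ℂˣ => z⁻¹) (τ.symm hxc)
    simp only [inv_inv] at h2
    rw [cenHom_apply, ← h2, inv_eq_one]
    have h3 : τ.cenHom (c : E) ⟨x, mem_cen.2 h1⟩ = τ.β c x := rfl
    rw [← h3, show (⟨x, mem_cen.2 h1⟩ : Subgroup.centralizer ({(c : E)} : Set E)) =
      (⟨c, mem_cen.2 (Commute.refl _)⟩ : Subgroup.centralizer ({(c : E)} : Set E)) ^ i from
      Subtype.ext hi'.symm, map_zpow, cenHom_apply, τ.self, one_zpow]
  rw [show τ.β x y = τ.cenHom x ⟨y, mem_cen.2 hy⟩ from rfl, ← hj, map_zpow, h0, one_zpow]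

theorem pow_card_eq_one [Finite E] {x y : E} (h : Commute x y) :
    (τ.β x y : ℂ) ^ Nat.card E = 1 := by
  have h1 : (⟨y, mem_cen.2 h⟩ : Subgroup.centralizer ({x} : Set E)) ^ Nat.card E = 1 :=
    Subtype.ext (by simp [pow_card_eq_one'])
  rw [← Units.val_pow_eq_pow_val, show τ.β x y = τ.cenHom x ⟨y, mem_cen.2 h⟩ from rfl,
    ← map_pow, h1, map_one, Units.val_one]

theorem sum_cenHom [Finite E] (x : E) [Fintype (Subgroup.centralizer ({x} : Set E))] :
    ∑ y : Subgroup.centralizer ({x} : Set E), (τ.β x y : ℂ) =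
      open Classical in
      if τ.Good x then (Nat.card (Subgroup.centralizer ({x} : Set E)) : ℂ) else 0 := by
  classical
  split_ifs with hg
  · rw [Finset.sum_eq_card_nsmul (b := (1 : ℂ)) fun y _ => by
      rw [hg y (mem_cen.1 y.2), Units.val_one]]
    simp [Nat.card_eq_fintype_card]
  · have hne : ((Units.coeHom ℂ).comp (τ.cenHom x)) ≠ 1 := fun h => hg (τ.good_iff.2
      (MonoidHom.ext fun y => Units.ext (DFunLike.congr_fun h y)))
    exact sum_hom_units_eq_zero _ hne

end Twist

section Action

variable {E : Type u} [Group E] [Fintype E] {p : ℕ} {M : Ideal AlgInt} (S : PSys p M)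
variable (Ω : Type v) [CommGroup Ω] [Finite Ω] [MulDistribMulAction E Ω]

/-- The functions on `Ω` turning products into sums. -/
def addFun : Submodule S.K (Ω → S.K) where
  carrier := {f | ∀ a b, f (a * b) = f a + f b}
  add_mem' := fun {f g} hf hg a b => by simp only [Pi.add_apply, hf a b, hg a b]; abel
  zero_mem' := fun a b => by simp
  smul_mem' := fun c f hf a b => by simp only [Pi.smul_apply, hf a b, smul_eq_mul, mul_add]

variable (E) in
/-- The action on these functions. -/
def addRep : Representation S.K E (addFun S Ω) where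
  toFun y :=
    { toFun := fun f => ⟨fun ω => (f : Ω → S.K) (y⁻¹ • ω), fun a b => by
        show (f : Ω → S.K) (y⁻¹ • (a * b)) = _
        rw [smul_mul', f.2]⟩
      map_add' := fun f g => rfl
      map_smul' := fun c f => rfl }
  map_one' := LinearMap.ext fun f => Subtype.ext (funext fun ω => by simp)
  map_mul' := fun a b => LinearMap.ext fun f => Subtype.ext (funext fun ω => by
    simp [mul_inv_rev, mul_smul])

variable {S Ω}

theorem addRep_apply (y : E) (f : addFun S Ω) (ω : Ω) :
    (addRep E S Ω y f : Ω → S.K) ω = (f : Ω → S.K) (y⁻¹ • ω) := rfl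

theorem addFun_one (f : addFun S Ω) : (f : Ω → S.K) 1 = 0 := by
  have := f.2 1 1
  rwa [one_mul, left_eq_add] at this

theorem addFun_prod (f : addFun S Ω) {ι : Type*} (s : Finset ι) (g : ι → Ω) :
    (f : Ω → S.K) (∏ i ∈ s, g i) = ∑ i ∈ s, (f : Ω → S.K) (g i) := by
  classical
  induction s using Finset.induction_on with
  | empty => simpa using addFun_one f
  | insert a s ha ih => rw [Finset.prod_insert ha, Finset.sum_insert ha, f.2, ih]

/-- The functions separate the points. -/
theorem exists_addFun_ne_zero [hp : Fact p.Prime] (hexp : ∀ ω : Ω, ω ^ p = 1) {v : Ω}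
    (hv : v ≠ 1) : ∃ f : addFun S Ω, (f : Ω → S.K) v ≠ 0 := by
  haveI := S.charP
  have hm : ∀ a : Additive Ω, p • a = 0 := fun a => by
    rw [← ofMul_toMul a, ← ofMul_pow, hexp, ofMul_one]
  letI : Module (ZMod p) (Additive Ω) := AddCommGroup.zmodModule hm
  have h0 : Additive.ofMul v ≠ 0 := fun h => hv (ofMul_eq_zero.1 h)
  obtain ⟨l, hl⟩ : ∃ l : Additive Ω →+ ZMod p, l (Additive.ofMul v) ≠ 0 := by
    by_contra h
    push Not at h
    exact h0 ((Module.forall_dual_apply_eq_zero_iff (ZMod p) _).1 fun φ => h φ.toAddMonoidHom)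
  let c := ZMod.castHom (dvd_refl p) S.K
  refine ⟨⟨fun ω => c (l (Additive.ofMul ω)), fun a b => by
    simp only [ofMul_mul, map_add]⟩, fun h => hl ?_⟩
  exact (RingHom.injective c) (h.trans (map_zero c).symm)

variable [hp : Fact p.Prime] (hE : ¬ p ∣ Nat.card E) (hSm : S.Fits E) (τ : Twist E)
  (hbad : ∀ ω : Ω, ω ≠ 1 → ∀ x : E, x ≠ 1 → x • ω = ω →
    ∃ y, Commute x y ∧ y • ω = ω ∧ τ.β x y ≠ 1)
  (hfix : ∀ ω : Ω, (∀ x : E, x • ω = ω) → ω = 1)

include hE hSm in
theorem pow_m {z : ℂ} (hz : z ^ Nat.card E = 1) : z ^ S.m = 1 := by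
  obtain ⟨a, ha⟩ := S.hq
  have h1 : (Nat.card E).Coprime S.q := by
    rw [ha]
    exact (Nat.Coprime.pow_left a ((hp.out.coprime_iff_not_dvd.2 hE))).symm
  obtain ⟨c, hc⟩ := h1.dvd_of_dvd_mul_right hSm
  rw [hc, pow_mul, hz, one_pow]

include hE hSm hbad hfix in
/-- Each twisted projection vanishes. -/
theorem sum_centralizer_eq_zero (x : E) [Fintype (Subgroup.centralizer ({x} : Set E))] :
    ∑ y : Subgroup.centralizer ({x} : Set E),
      resRoot S (τ.β x y : ℂ) • addRep E S Ω (y : E) = 0 := by
  classical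
  refine LinearMap.ext fun f => Subtype.ext (funext fun ω => ?_)
  simp only [LinearMap.sum_apply, LinearMap.smul_apply, AddSubmonoidClass.coe_finsetSum,
    SetLike.val_smul, Finset.sum_apply, Pi.smul_apply, smul_eq_mul, LinearMap.zero_apply,
    ZeroMemClass.coe_zero, Pi.zero_apply, addRep_apply]
  set g : Ω → S.K := fun ω => ∑ y : Subgroup.centralizer ({x} : Set E), resRoot S (τ.β x y : ℂ) * (f : Ω → S.K) ((y : E)⁻¹ • ω)
    with hg
  suffices hmain : g ω = 0 by
    rw [← hmain]
  have hadd : ∀ a b, g (a * b) = g a + g b := fun a b => by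
    simp only [hg, smul_mul']
    rw [← Finset.sum_add_distrib]
    exact Finset.sum_congr rfl fun y _ => by rw [f.2, mul_add]
  let gW : addFun S Ω := ⟨g, hadd⟩
  have hroot : ∀ y : Subgroup.centralizer ({x} : Set E), (τ.β x y : ℂ) ^ S.m = 1 := fun y =>
    pow_m hE hSm (τ.pow_card_eq_one (Twist.mem_cen.1 y.2))
  have hsemi : ∀ (z : Subgroup.centralizer ({x} : Set E)) (η : Ω), g ((z : E) • η) = resRoot S (τ.β x z : ℂ) * g η := by
    intro z η
    simp only [hg, Finset.mul_sum]
    refine (Fintype.sum_equiv (Equiv.mulLeft z) _ _ fun y => ?_).symm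
    rw [Equiv.coe_mulLeft, ← mul_assoc, ← resRoot_mul (mem_of_pow_eq_one (hroot z))
      (mem_of_pow_eq_one (hroot y)), ← Units.val_mul,
      ← τ.mul_right (Twist.mem_cen.1 z.2) (Twist.mem_cen.1 y.2), Subgroup.coe_mul, mul_inv_rev,
      mul_smul, inv_smul_smul]
  set o := orderOf x with ho
  have ho0 : 0 < o := orderOf_pos x
  have hpo : ¬ p ∣ o := fun h => hE (h.trans (orderOf_dvd_natCard x))
  have hfixg : ∀ (i : ℕ) (η : Ω), g (x ^ i • η) = g η := by
    intro i η
    induction i with
    | zero => simp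
    | succ i ih =>
      rw [pow_succ', mul_smul]
      have h1 := hsemi ⟨x, Twist.mem_cen.2 (Commute.refl x)⟩ (x ^ i • η)
      rw [τ.self, Units.val_one, resRoot_one, one_mul] at h1
      rw [h1, ih]
  set η := ∏ i ∈ Finset.range o, x ^ i • ω with hη
  have hxη : x • η = η := by
    rw [hη, Finset.smul_prod']
    have h := Finset.prod_range_succ' (fun i => x ^ i • ω) o
    rw [Finset.prod_range_succ] at h
    rw [ho, pow_orderOf_eq_one, pow_zero] at h
    rw [← ho] at h
    simp only [← mul_smul, ← pow_succ']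
    exact (mul_right_cancel h).symm
  have hgη : g η = (o : S.K) * g ω := by
    rw [hη, show g (∏ i ∈ Finset.range o, x ^ i • ω) =
      ∑ i ∈ Finset.range o, g (x ^ i • ω) from addFun_prod gW _ _]
    simp [hfixg]
  have hg0 : g η = 0 := by
    rcases eq_or_ne η 1 with h1 | h1
    · rw [h1]; exact addFun_one gW
    · rcases eq_or_ne x 1 with hx | hx
      · subst hx
        have hall : ∀ (z : E) (ζ : Ω), g (z • ζ) = g ζ := fun z ζ => by
          have h2 := hsemi ⟨z, Twist.mem_cen.2 (Commute.one_left z)⟩ ζ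
          rw [τ.good_one z (Commute.one_left z), Units.val_one, resRoot_one, one_mul] at h2
          exact h2
        have hprod : g (∏ z : E, z • η) = (Fintype.card E : S.K) * g η := by
          rw [show g (∏ z : E, z • η) = ∑ z : E, g (z • η) from addFun_prod gW _ _]
          simp [hall]
        have hone : ∏ z : E, z • η = 1 := hfix _ fun w => by
          rw [Finset.smul_prod']
          exact Fintype.prod_equiv (Equiv.mulLeft w) _ _ fun z => by simp [mul_smul]
        rw [hone, show g 1 = 0 from addFun_one gW] at hprod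
        exact (mul_eq_zero.1 hprod.symm).resolve_left
          (S.natCast_ne_zero (Nat.card_eq_fintype_card (α := E) ▸ hE))
      · obtain ⟨y, hy, hyη, hne⟩ := hbad η h1 x hx hxη
        have h2 := hsemi ⟨y, Twist.mem_cen.2 hy⟩ η
        rw [hyη] at h2
        by_contra h3
        refine hne (Units.ext (eq_one_of_resRoot (hroot ⟨y, Twist.mem_cen.2 hy⟩) ?_))
        exact mul_right_cancel₀ h3 (h2.symm.trans (one_mul _).symm)
  rw [hgη] at hg0
  exact (mul_eq_zero.1 hg0).resolve_left (S.natCast_ne_zero hpo)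

end Action

end CfsgLib.SmallBlocks.NormalDef
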