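import Cfsg.Agent.Lib.SmallBlocks.NormalDef.TwistLinear

/-!
# The sum over the good elements and its two consequences
-/

set_option autoImplicit false
set_option linter.style.haveILetI false
set_option linter.unusedSectionVars false

open Cfsg Finset Module CfsgLib.IBr

namespace CfsgLib.SmallBlocks.NormalDef

universe u v

open scoped Classical in
/-- An endomorphism with lifted trace `-dim` is `-1`. -/
theorem eq_neg_one_of_brauEnd {p : ℕ} {M : Ideal AlgInt} (S : PSys p M) {W : Type*}
    [AddCommGroup W] [Module S.K W] [FiniteDimensional S.K W] {X : Module.End S.K W}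
    (hX : X ^ S.m = 1) (h : S.brauEnd X = -(finrank S.K W : ℂ)) : X = -1 := by
  set r : ℕ → ℕ := fun j => finrank S.K (LinearMap.range (S.eproj X j)) with hr
  have hsum : ∑ j ∈ range S.m, r j = finrank S.K W := by
    have h1 := congrArg (LinearMap.trace S.K W) (S.sum_eproj (X := X))
    -- compare lifted traces of the identity
    have h2 := S.brauEnd_one (W := W)
    have hproj : ∀ i ∈ range S.m, ∀ j ∈ range S.m, i ≠ j →
        S.eproj X i * S.eproj X j = 0 := by
      intro i hi j hj hij
      have e1 := S.mul_eproj hX (mem_range.1 hi)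
      have e2 := S.mul_eproj hX (mem_range.1 hj)
      have hcomm : Commute (S.eproj X i) X := by
        rw [PSys.eproj]
        refine (Commute.smul_left (Commute.sum_left _ _ _ fun l _ => ?_) _)
        exact ((Commute.refl X).pow_left l).smul_left _
      have e3 : (S.rootK ^ j - S.rootK ^ i) • (S.eproj X i * S.eproj X j) = 0 := by
        rw [sub_smul, sub_eq_zero, ← mul_smul_comm, ← e2, ← mul_assoc, hcomm.eq, e1, smul_mul_assoc]
      refine (smul_eq_zero.1 e3).resolve_left fun e4 => hij ?_
      have e5 : S.rootK ^ j = S.rootK ^ i := sub_eq_zero.1 e4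
      have hz : ∀ l, (S.root ^ l) ^ S.m = 1 := fun l => by
        rw [← pow_mul, mul_comm, pow_mul, S.isPrimitiveRoot_root.pow_eq_one, one_pow]
      have hres : ∀ l, resRoot S (S.root ^ l) = S.rootK ^ l := fun l => by
        rw [resRoot, dif_pos (pow_mem S.root_mem l), PSys.rootK, ← map_pow]
        rfl
      have e6 : resRoot S (S.root ^ j * (S.root ^ i)⁻¹) = 1 := by
        have hinv : (S.root ^ i)⁻¹ ∈ S.V := mem_of_pow_eq_one (by rw [inv_pow, hz, inv_one])
        have h0 : S.root ^ i ≠ 0 := pow_ne_zero _ (S.isPrimitiveRoot_root.ne_zero S.m_pos.ne')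
        rw [resRoot_mul (pow_mem S.root_mem j) hinv, hres, e5, ← hres,
          ← resRoot_mul (pow_mem S.root_mem i) hinv, mul_inv_cancel₀ h0, resRoot_one]
      have e7 := eq_one_of_resRoot (by rw [mul_pow, inv_pow, hz, hz, inv_one, mul_one]) e6
      rw [mul_inv_eq_one₀ (pow_ne_zero _ (S.isPrimitiveRoot_root.ne_zero S.m_pos.ne'))] at e7
      exact (S.isPrimitiveRoot_root.pow_inj (mem_range.1 hi) (mem_range.1 hj) e7.symm)
    let D : ∀ j, W →ₗ[S.K] LinearMap.range (S.eproj X j) := fun j => (S.eproj X j).rangeRestrict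
    let e : W ≃ₗ[S.K] (∀ j : range S.m, LinearMap.range (S.eproj X j)) :=
      LinearEquiv.ofBijective (LinearMap.pi fun j : range S.m => D j) ⟨by
        refine (injective_iff_map_eq_zero _).2 fun w hw => ?_
        rw [show w = (1 : Module.End S.K W) w from rfl, ← S.sum_eproj (X := X), LinearMap.sum_apply]
        exact Finset.sum_eq_zero fun j hj =>
          congrArg Subtype.val (congrFun hw ⟨j, hj⟩), fun y => by
        refine ⟨∑ j : range S.m, (y j : W), funext fun i => Subtype.ext ?_⟩
        show S.eproj X i (∑ j : range S.m, (y j : W)) = y i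
        rw [map_sum, Finset.sum_eq_single i]
        · obtain ⟨x, hx⟩ := (y i).2
          rw [← hx, ← Module.End.mul_apply, S.eproj_idem hX (mem_range.1 i.2)]
        · intro j _ hji
          obtain ⟨x, hx⟩ := (y j).2
          rw [← hx, ← Module.End.mul_apply,
            hproj i i.2 j j.2 fun h => hji (Subtype.ext h.symm), LinearMap.zero_apply]
        · exact fun h => absurd (Finset.mem_univ i) h⟩
    rw [e.finrank_eq, Module.finrank_pi_fintype, ← Finset.sum_coe_sort (range S.m)]
  have hnorm : ∀ j, ‖S.root ^ j‖ = 1 := fun j =>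
    Complex.norm_eq_one_of_pow_eq_one (by
      rw [← pow_mul, mul_comm, pow_mul, S.isPrimitiveRoot_root.pow_eq_one, one_pow]) S.m_pos.ne'
  have hre : ∀ j, 0 ≤ (r j : ℝ) * (1 + (S.root ^ j).re) := fun j => by
    refine mul_nonneg (Nat.cast_nonneg _) ?_
    have := Complex.abs_re_le_norm (S.root ^ j)
    rw [hnorm] at this
    linarith [(abs_le.1 this).1]
  have htot : ∑ j ∈ range S.m, (r j : ℝ) * (1 + (S.root ^ j).re) = 0 := by
    have h1 := congrArg Complex.re h
    simp only [PSys.brauEnd, Complex.re_sum, Complex.neg_re, Complex.natCast_re] at h1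
    have h2 : ∀ j, (S.root ^ j * (r j : ℂ)).re = (r j : ℝ) * (S.root ^ j).re := fun j => by
      simp [Complex.mul_re, mul_comm]
    simp only [mul_add, mul_one, Finset.sum_add_distrib]
    rw [← Finset.sum_congr rfl fun j _ => h2 j]
    have h3 : ∑ j ∈ range S.m, (r j : ℝ) = (finrank S.K W : ℝ) := by exact_mod_cast hsum
    rw [h3, h1, add_neg_cancel]
  have hzero := (Finset.sum_eq_zero_iff_of_nonneg fun j _ => hre j).1 htot
  conv_lhs => rw [S.eq_sum_eproj hX]
  rw [← S.sum_eproj (X := X), ← Finset.sum_neg_distrib]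
  refine Finset.sum_congr rfl fun j hj => ?_
  rcases mul_eq_zero.1 (hzero j hj) with h1 | h1
  · have h2 : LinearMap.range (S.eproj X j) = ⊥ := Submodule.finrank_eq_zero.1 (Nat.cast_eq_zero.1 h1)
    rw [LinearMap.range_eq_bot.1 h2, smul_zero, neg_zero]
  · have h2 : S.root ^ j = -1 := by
      have hn := hnorm j
      rw [Complex.norm_eq_sqrt_sq_add_sq, Real.sqrt_eq_one] at hn
      have hre1 : (S.root ^ j).re = -1 := by linarith
      rw [hre1] at hn
      exact Complex.ext (by simpa using hre1) (by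
        simp only [Complex.neg_im, Complex.one_im, neg_zero]
        nlinarith)
    have h3 : S.rootK ^ j = -1 := by
      rw [PSys.rootK, ← map_pow, show S.rootV ^ j = -1 from Subtype.ext h2, map_neg, map_one]
    rw [h3, neg_one_smul]

section

variable {E : Type u} [Group E] [Fintype E] {p : ℕ} [hp : Fact p.Prime] {M : Ideal AlgInt}
  {S : PSys p M} {Ω : Type v} [CommGroup Ω] [Finite Ω] [MulDistribMulAction E Ω]
  (hE : ¬ p ∣ Nat.card E) (hSm : S.Fits E) (τ : Twist E)
  (hbad : ∀ ω : Ω, ω ≠ 1 → ∀ x : E, x ≠ 1 → x • ω = ω →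
    ∃ y, Commute x y ∧ y • ω = ω ∧ τ.β x y ≠ 1)
  (hfix : ∀ ω : Ω, (∀ x : E, x • ω = ω) → ω = 1)

include hE hSm hbad hfix in
open scoped Classical in
/-- The master identity. -/
theorem sum_good_brau :
    ∑ y : E, (if τ.Good y then (Nat.card (Subgroup.centralizer ({y} : Set E)) : ℂ) else 0) *
      S.brau (addRep E S Ω) y = 0 := by
  have hx : ∀ x : E, ∑ y : E, (if Commute x y then (τ.β x y : ℂ) else 0) *
      S.brau (addRep E S Ω) y = 0 := by
    intro x
    haveI := Fintype.ofFinite (Subgroup.centralizer ({x} : Set E))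
    set C := Subgroup.centralizer ({x} : Set E)
    have h1 := sum_mul_brau_eq_zero (Q := C) (hSm.subgroup C)
      (fun h => hE (h.trans (Subgroup.card_subgroup_dvd_card C))) (τ.cenHom x)
      (fun y => pow_m hE hSm (τ.pow_card_eq_one (Twist.mem_cen.1 y.2)))
      (W := addFun S Ω) ((addRep E S Ω).comp C.subtype)
      (sum_centralizer_eq_zero hE hSm τ hbad hfix x)
    refine Eq.trans ?_ h1
    simp only [ite_mul, zero_mul]
    rw [← Finset.sum_filter, Finset.sum_subtype (p := fun y => y ∈ C) _
      (fun y => by simp [C, Twist.mem_cen]) fun y => (τ.β x y : ℂ) * S.brau (addRep E S Ω) y]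
    refine Finset.sum_congr rfl fun y _ => ?_
    rw [Twist.cenHom_apply]
    congr 1
  refine Eq.trans ?_ (Finset.sum_eq_zero (s := Finset.univ) fun x _ => hx x)
  rw [Finset.sum_comm]
  refine Finset.sum_congr rfl fun y _ => ?_
  rw [← Finset.sum_mul]
  congr 1
  haveI hCy := Fintype.ofFinite (Subgroup.centralizer ({y} : Set E))
  have h2 : ∑ x : E, (if Commute x y then (τ.β x y : ℂ) else 0) =
      ∑ x : Subgroup.centralizer ({y} : Set E), ((τ.β y x : ℂ))⁻¹ := by
    rw [← Finset.sum_filter]
    refine (Finset.sum_subtype (F := hCy) (p := fun x => x ∈ Subgroup.centralizer ({y} : Set E)) _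
      (fun x => by simp only [mem_filter, mem_univ, true_and, Twist.mem_cen]; exact ⟨fun h => h.symm, fun h => h.symm⟩)
      fun x => (τ.β x y : ℂ)).trans ?_
    refine Finset.sum_congr rfl fun x _ => ?_
    rw [τ.symm (Twist.mem_cen.1 x.2), Units.val_inv_eq_inv_val]
  rw [h2]
  rw [← Fintype.sum_equiv (Equiv.inv (Subgroup.centralizer ({y} : Set E)))
    (fun x => (τ.β y x : ℂ)) (fun x => ((τ.β y x : ℂ))⁻¹) fun x => by
      rw [Equiv.inv_apply, ← τ.cenHom_apply y x⁻¹, map_inv, τ.cenHom_apply,
        Units.val_inv_eq_inv_val, inv_inv]]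
  exact (τ.sum_cenHom y).symm

include hE hSm hbad hfix in
/-- Not every non-trivial element is bad. -/
theorem false_of_all_bad (hall : ∀ x : E, x ≠ 1 → ¬ τ.Good x) (hexp : ∀ ω : Ω, ω ^ p = 1)
    {v : Ω} (hv : v ≠ 1) : False := by
  classical
  have h := sum_good_brau hE hSm τ hbad hfix
  rw [Finset.sum_eq_single (1 : E)] at h
  · rw [if_pos τ.good_one, PSys.brau_one] at h
    rcases mul_eq_zero.1 h with h1 | h1
    · exact Nat.card_pos.ne' (Nat.cast_eq_zero.1 h1)
    · obtain ⟨f, hf⟩ := exists_addFun_ne_zero (S := S) hexp hv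
      haveI : Subsingleton (addFun S Ω) := finrank_zero_iff.1 (Nat.cast_eq_zero.1 h1)
      exact hf (by rw [Subsingleton.elim f 0]; rfl)
  · intro y _ hy
    rw [if_neg (hall y hy), zero_mul]
  · exact fun h => absurd (Finset.mem_univ _) h

open scoped Classical in
/-- The class equation. -/
theorem sum_class_centralizer (g : E) :
    ∑ y ∈ univ.filter (IsConj g), Nat.card (Subgroup.centralizer ({y} : Set E)) = Nat.card E := by
  rw [Nat.card_eq_fintype_card, ← Finset.card_univ,
    Finset.card_eq_sum_card_fiberwise (f := fun h => h * g * h⁻¹) (t := univ.filter (IsConj g))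
      fun h _ => by simp [isConj_iff]]
  refine Finset.sum_congr rfl fun y hy => ?_
  obtain ⟨h0, hh0⟩ := isConj_iff.1 (mem_filter.1 hy).2
  rw [Nat.card_eq_fintype_card, ← Finset.card_univ]
  refine Finset.card_bij (fun z _ => (z : E) * h0) (fun z _ => ?_) (fun z _ w _ e => ?_) fun h hh => ?_
  · simp only [mem_filter, mem_univ, true_and, ← hh0]
    have hz : y * (z : E) = (z : E) * y := Twist.mem_cen.1 z.2
    calc (z : E) * h0 * g * ((z : E) * h0)⁻¹ = (z : E) * (h0 * g * h0⁻¹) * (z : E)⁻¹ := by group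
      _ = y := by rw [hh0, ← hz, mul_inv_cancel_right]
      _ = h0 * g * h0⁻¹ := hh0.symm
  · exact Subtype.ext (mul_right_cancel e)
  · have hy' := (mem_filter.1 hh).2
    refine ⟨⟨h * h0⁻¹, Twist.mem_cen.2 ?_⟩, mem_univ _, by simp⟩
    show y * (h * h0⁻¹) = h * h0⁻¹ * y
    calc y * (h * h0⁻¹) = h * g * h⁻¹ * (h * h0⁻¹) := by rw [hy']
      _ = h * h0⁻¹ * (h0 * g * h0⁻¹) := by group
      _ = h * h0⁻¹ * y := by rw [hh0]

include hE hSm hbad hfix in
open scoped Classical in
/-- A group with exactly two good classes: the second one inverts. -/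
theorem smul_eq_inv_of_two (hexp : ∀ ω : Ω, ω ^ p = 1)
    (hcount : ∑ y ∈ univ.filter τ.Good, Nat.card (Subgroup.centralizer ({y} : Set E)) ≤
      2 * Nat.card E)
    {g : E} (hg1 : g ≠ 1) (hclass : ∀ y, IsConj g y → τ.Good y) (ω : Ω) :
    g⁻¹ • ω = ω⁻¹ := by
  set A := univ.filter (IsConj g) with hA
  have h1A : (1 : E) ∉ A := fun h => hg1 (isConj_one_left.1 (mem_filter.1 h).2)
  have hsub : insert 1 A ⊆ univ.filter τ.Good := by
    intro y hy
    refine mem_filter.2 ⟨mem_univ _, ?_⟩
    rcases mem_insert.1 hy with rfl | hy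
    · exact τ.good_one
    · exact hclass y (mem_filter.1 hy).2
  have hcard1 : Nat.card (Subgroup.centralizer ({(1 : E)} : Set E)) = Nat.card E := by
    rw [show Subgroup.centralizer ({(1 : E)} : Set E) = ⊤ from
      eq_top_iff.2 fun y _ => Twist.mem_cen.2 (Commute.one_left y), Subgroup.card_top]
  have hA2 := sum_class_centralizer g
  have hexact : univ.filter τ.Good = insert 1 A := by
    refine (Finset.Subset.antisymm hsub fun y hy => ?_).symm
    by_contra hy'
    have h1 := Finset.sum_le_sum_of_subset (f := fun y => Nat.card (Subgroup.centralizer ({y} : Set E)))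
      (Finset.insert_subset hy hsub)
    rw [Finset.sum_insert hy', Finset.sum_insert h1A, hcard1, hA2] at h1
    have h2 : 0 < Nat.card (Subgroup.centralizer ({y} : Set E)) := Nat.card_pos
    omega
  have h := sum_good_brau hE hSm τ hbad hfix
  simp only [ite_mul, zero_mul] at h
  rw [← Finset.sum_filter, hexact, Finset.sum_insert h1A, hcard1,
    Finset.sum_congr rfl (g := fun y => (Nat.card (Subgroup.centralizer ({y} : Set E)) : ℂ) *
      S.brau (addRep E S Ω) g) fun y hy => by
        obtain ⟨c, rfl⟩ := isConj_iff.1 (mem_filter.1 hy).2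
        rw [PSys.brau_conj_arg], ← Finset.sum_mul, ← Nat.cast_sum, hA2, ← mul_add, mul_eq_zero,
    PSys.brau_one] at h
  replace h := h.resolve_left (Nat.cast_ne_zero.2 Nat.card_pos.ne')
  have hreg : S.reg g = g :=
    (hSm.reg_eq_self_iff g).2 fun hh => hE (hh.trans (orderOf_dvd_natCard g))
  have hneg : addRep E S Ω g = -1 := by
    refine eq_neg_one_of_brauEnd S ?_ ?_
    · rw [← hreg]
      exact hSm.rep_pow _ g
    · have h3 : S.brauEnd (addRep E S Ω g) = S.brau (addRep E S Ω) g := by rw [PSys.brau, hreg]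
      rw [h3]
      linear_combination h
  by_contra hne
  have hne' : g⁻¹ • ω * ω ≠ 1 := fun e => hne (eq_inv_of_mul_eq_one_left e)
  obtain ⟨f, hf⟩ := exists_addFun_ne_zero (S := S) hexp hne'
  apply hf
  rw [f.2, ← addRep_apply, hneg]
  simp

end

end CfsgLib.SmallBlocks.NormalDef
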